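import Cfsg.Agent.H902.Facts

/-!
# The `v`-part of `|Out T|` is smaller than the `v`-part of `|T|`: arithmetic (helper997)

`cc X p f * f` is a multiple of `|Out S|` for the simple group `S` of shape `X` over the field of `p ^ f` elements.

`not_dvd`: if the prime `v` divides `M = |S|` then the `v`-part of `M` does not divide `cc X p f * f`.
-/

set_option autoImplicit false

namespace Cfsg.Agent.H997.PF.OutNum

open Cfsg.Agent.H902 Cfsg.Agent.H902.Art Finset

/-- `cc X p f * f` is a multiple of `|Out|` -/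
def cc : Art.Sh → ℕ → ℕ → ℕ
  | .L n, p, f => (if n = 2 then 1 else 2) * Nat.gcd n (p ^ f - 1)
  | .C n, p, f => (if n = 2 ∧ p = 2 then 2 else 1) * Nat.gcd 2 (p ^ f - 1)
  | .U n, p, f => 2 * Nat.gcd n (p ^ f + 1)
  | .D n, p, _ => (if n = 4 then 3 else 1) * (if p = 2 then 2 else 8)
  | .DD _, p, _ => if p = 2 then 2 else 8
  | .G2, p, _ => if p = 3 then 2 else 1
  | .F4, p, _ => Nat.gcd 2 p
  | .E6, p, f => 2 * Nat.gcd 3 (p ^ f - 1)
  | .E7, p, f => Nat.gcd 2 (p ^ f - 1)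
  | .E8, _, _ => 1
  | .TE6, p, f => 2 * Nat.gcd 3 (p ^ f + 1)
  | .TD4, _, _ => 3
  | .Sz, _, _ => 1
  | .Ree, _, _ => 1
  | .TF4, _, _ => 1

theorem cc_dvd (X : Art.Sh) (p f : ℕ) : cc X p f ∣ 48 * dd X (p ^ f) ∧ (p = 2 → cc X p f ∣ 6 * dd X (p ^ f)) := by
  have key : ∀ a b c : ℕ, a ∣ c → a * b ∣ c * b := fun a b c h => Nat.mul_dvd_mul_right h b
  cases X with
  | L n => exact ⟨key _ _ _ (by split_ifs <;> norm_num), fun _ => key _ _ _ (by split_ifs <;> norm_num)⟩
  | C n => exact ⟨key _ _ _ (by split_ifs <;> norm_num), fun _ => key _ _ _ (by split_ifs <;> norm_num)⟩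
  | U n => exact ⟨key _ _ _ (by norm_num), fun _ => key _ _ _ (by norm_num)⟩
  | D n =>
    refine ⟨Dvd.dvd.mul_right ?_ _, fun h => Dvd.dvd.mul_right ?_ _⟩
    · show (if n = 4 then 3 else 1) * (if p = 2 then 2 else 8) ∣ 48
      split_ifs <;> norm_num
    · show (if n = 4 then 3 else 1) * (if p = 2 then 2 else 8) ∣ 6
      rw [if_pos h]; split_ifs <;> norm_num
  | DD n =>
    refine ⟨Dvd.dvd.mul_right ?_ _, fun h => Dvd.dvd.mul_right ?_ _⟩
    · show (if p = 2 then 2 else 8) ∣ 48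
      split_ifs <;> norm_num
    · show (if p = 2 then 2 else 8) ∣ 6
      rw [if_pos h]; norm_num
  | G2 =>
    refine ⟨Dvd.dvd.mul_right ?_ _, fun h => Dvd.dvd.mul_right ?_ _⟩
    · show (if p = 3 then 2 else 1) ∣ 48
      split_ifs <;> norm_num
    · show (if p = 3 then 2 else 1) ∣ 6
      split_ifs <;> norm_num
  | F4 =>
    refine ⟨Dvd.dvd.mul_right ?_ _, fun h => Dvd.dvd.mul_right ?_ _⟩
    · exact (Nat.gcd_dvd_left 2 p).trans (by norm_num)
    · exact (Nat.gcd_dvd_left 2 p).trans (by norm_num)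
  | E6 => exact ⟨key _ _ _ (by norm_num), fun _ => key _ _ _ (by norm_num)⟩
  | E7 => exact ⟨Dvd.intro_left _ rfl, fun _ => Dvd.intro_left _ rfl⟩
  | E8 => exact ⟨one_dvd _, fun _ => one_dvd _⟩
  | TE6 => exact ⟨key _ _ _ (by norm_num), fun _ => key _ _ _ (by norm_num)⟩
  | TD4 => exact ⟨Dvd.dvd.mul_right (by unfold cc; norm_num) _, fun _ => Dvd.dvd.mul_right (by unfold cc; norm_num) _⟩
  | Sz => exact ⟨one_dvd _, fun _ => one_dvd _⟩
  | Ree => exact ⟨one_dvd _, fun _ => one_dvd _⟩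
  | TF4 => exact ⟨one_dvd _, fun _ => one_dvd _⟩

theorem cc_ne (X : Art.Sh) (p f : ℕ) (hd : dd X (p ^ f) ≠ 0) : cc X p f ≠ 0 := by
  intro h
  have := (cc_dvd X p f).1
  rw [h] at this
  have h2 := Nat.eq_zero_of_zero_dvd this
  omega

/-! ### lifting the exponent -/

theorem lte {v : ℕ} {x : ℤ} (h : (v : ℤ) ∣ x - 1) (k : ℕ) : (v : ℤ) ^ k * (x - 1) ∣ x ^ (v ^ k) - 1 := by
  induction k with
  | zero => simp
  | succ k ih =>
    have h1 : (v : ℤ) ∣ x ^ (v ^ k) - 1 := h.trans ((Dvd.intro_left _ rfl).trans ih)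
    set y := x ^ (v ^ k) with hy
    have h2 : x ^ (v ^ (k + 1)) - 1 = (y - 1) * ∑ i ∈ range v, y ^ i := by
      rw [mul_geom_sum, hy, ← pow_mul, ← pow_succ]
    have h3 : (v : ℤ) ∣ ∑ i ∈ range v, y ^ i := by
      have h4 : (v : ℤ) ∣ ∑ i ∈ range v, (y ^ i - 1) := by
        refine Finset.dvd_sum fun i _ => h1.trans ?_
        have := sub_dvd_pow_sub_pow y 1 i
        rwa [one_pow] at this
      rw [Finset.sum_sub_distrib] at h4
      have h5 : ∑ i ∈ range v, (1 : ℤ) = v := by simp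
      rw [h5] at h4
      have := dvd_add h4 (dvd_refl (v : ℤ))
      rwa [sub_add_cancel] at this
    rw [h2, pow_succ, mul_comm ((v : ℤ) ^ k) (v : ℤ), mul_assoc, mul_comm]
    exact mul_dvd_mul ih h3

theorem frob {v : ℕ} (hv : v.Prime) {x : ℤ} {k : ℕ} (h : (v : ℤ) ∣ x ^ (v ^ k) - 1) : (v : ℤ) ∣ x - 1 := by
  have := Fact.mk hv
  rw [← ZMod.intCast_zmod_eq_zero_iff_dvd] at h ⊢
  push_cast at h ⊢
  rwa [ZMod.pow_card_pow] at h

theorem exists_eq (v f : ℕ) : ∃ k f', P v f = v ^ k ∧ f = f' * v ^ k := by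
  refine ⟨f.factorization v, f / v ^ f.factorization v, rfl, ?_⟩
  rw [Nat.div_mul_cancel (Nat.ordProj_dvd f v)]

/-- the integer version -/
theorem int_dvd {v : ℕ} (hv : v.Prime) {x : ℤ} {f : ℕ} (h : (v : ℤ) ∣ x ^ (P v f) - 1) :
    ((v * P v f : ℕ) : ℤ) ∣ x ^ (P v f) - 1 := by
  obtain ⟨k, f', h1, h2⟩ := exists_eq v f
  rw [h1] at h ⊢
  have h3 := frob hv h
  have h4 := lte h3 k
  refine Dvd.dvd.trans ?_ h4
  push_cast
  rw [mul_comm]
  exact mul_dvd_mul_left _ h3

theorem sub_dvd {v p f i : ℕ} (hv : v.Prime) (hp : p.Prime) (h : v ∣ (p ^ f) ^ i - 1) :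
    v * P v f ∣ (p ^ f) ^ i - 1 := by
  obtain ⟨k, f', h1, h2⟩ := exists_eq v f
  have h0 : 1 ≤ (p ^ f) ^ i := Nat.one_le_pow _ _ (pow_pos hp.pos _)
  have h3 : (((p ^ f) ^ i - 1 : ℕ) : ℤ) = ((p : ℤ) ^ (f' * i)) ^ (P v f) - 1 := by
    rw [Nat.cast_sub h0]
    push_cast
    congr 1
    rw [← pow_mul, ← pow_mul, h1]
    congr 1
    conv_lhs => rw [h2]
    ring
  have h4 : (v : ℤ) ∣ (((p ^ f) ^ i - 1 : ℕ) : ℤ) := Int.natCast_dvd_natCast.2 h
  rw [h3] at h4
  have h5 := int_dvd hv h4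
  rw [← h3] at h5
  exact Int.natCast_dvd_natCast.1 h5

theorem add_dvd {v p f i : ℕ} (hv : v.Prime) (hv2 : v ≠ 2) (h : v ∣ (p ^ f) ^ i + 1) :
    v * P v f ∣ (p ^ f) ^ i + 1 := by
  obtain ⟨k, f', h1, h2⟩ := exists_eq v f
  have hodd : Odd (P v f) := by rw [h1]; exact (hv.odd_of_ne_two hv2).pow
  have h3 : (((p ^ f) ^ i + 1 : ℕ) : ℤ) = -((-((p : ℤ) ^ (f' * i))) ^ (P v f) - 1) := by
    rw [hodd.neg_pow]
    push_cast
    have : ((p : ℤ) ^ f) ^ i = ((p : ℤ) ^ (f' * i)) ^ P v f := by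
      rw [← pow_mul, ← pow_mul, h1]
      congr 1
      conv_lhs => rw [h2]
      ring
    rw [this]; ring
  have h4 : (v : ℤ) ∣ (((p ^ f) ^ i + 1 : ℕ) : ℤ) := Int.natCast_dvd_natCast.2 h
  rw [h3, dvd_neg] at h4
  have h5 := int_dvd hv h4
  rw [← dvd_neg, ← h3] at h5
  exact Int.natCast_dvd_natCast.1 h5

/-- `8 F ∣ q^(2 i) - 1` -/
theorem eight_dvd {p f i : ℕ} (hp : p.Prime) (hp2 : p ≠ 2) : 8 * P 2 f ∣ (p ^ f) ^ (2 * i) - 1 := by
  obtain ⟨k, f', h1, h2⟩ := exists_eq 2 f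
  have h0 : 1 ≤ (p ^ f) ^ (2 * i) := Nat.one_le_pow _ _ (pow_pos hp.pos _)
  have hodd : Odd p := hp.odd_of_ne_two hp2
  have h3 : (((p ^ f) ^ (2 * i) - 1 : ℕ) : ℤ) = (((p : ℤ) ^ (f' * i)) ^ 2) ^ (P 2 f) - 1 := by
    rw [Nat.cast_sub h0]
    push_cast
    congr 1
    rw [← pow_mul, ← pow_mul, ← pow_mul, h1]
    congr 1
    conv_lhs => rw [h2]
    ring
  have h5 : (8 : ℤ) ∣ ((p : ℤ) ^ (f' * i)) ^ 2 - 1 := by
    have h6 : Odd ((p : ℤ) ^ (f' * i)) := Odd.pow (by exact_mod_cast hodd)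
    exact Int.eight_dvd_sq_sub_one_of_odd h6
  have h6 : (2 : ℤ) ∣ ((p : ℤ) ^ (f' * i)) ^ 2 - 1 := Dvd.dvd.trans (by norm_num) h5
  have h7 := lte (v := 2) h6 k
  rw [← h1] at h7
  apply Int.natCast_dvd_natCast.1
  rw [h3]
  refine Dvd.dvd.trans ?_ h7
  push_cast
  rw [mul_comm, h1]
  push_cast
  exact mul_dvd_mul_left _ h5

/-! ### `v`-powers -/

/-- a power of `v` -/
def VP (v n : ℕ) : Prop := ∃ k, n = v ^ k

theorem VP.mul {v a b : ℕ} (ha : VP v a) (hb : VP v b) : VP v (a * b) := by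
  obtain ⟨k, rfl⟩ := ha
  obtain ⟨l, rfl⟩ := hb
  exact ⟨k + l, (pow_add _ _ _).symm⟩

theorem VP.P (v n : ℕ) : VP v (P v n) := ⟨_, rfl⟩

theorem VP.self (v : ℕ) : VP v v := ⟨1, (pow_one v).symm⟩

theorem VP.le {v n N : ℕ} (hv : v.Prime) (h : VP v n) (hN : N ≠ 0) (hd : n ∣ N) : n ≤ Art.P v N := by
  obtain ⟨k, rfl⟩ := h
  exact Nat.pow_le_pow_right hv.pos ((hv.pow_dvd_iff_le_factorization hN).1 hd)

theorem P_le_of_dvd {v a b : ℕ} (hb : b ≠ 0) (h : a ∣ b) : P v a ≤ b :=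
  Nat.le_of_dvd (Nat.pos_of_ne_zero hb) ((P_dvd v a).trans h)

theorem not_dvd_two {v : ℕ} (hv : v.Prime) (h2 : v ≠ 2) : ¬ v ∣ 2 :=
  fun h => h2 ((Nat.prime_dvd_prime_iff_eq hv Nat.prime_two).1 h)

theorem not_dvd_three {v : ℕ} (hv : v.Prime) (h2 : v ≠ 3) : ¬ v ∣ 3 :=
  fun h => h2 ((Nat.prime_dvd_prime_iff_eq hv Nat.prime_three).1 h)

theorem not_dvd_four {v : ℕ} (hv : v.Prime) (h2 : v ≠ 2) : ¬ v ∣ 4 :=
  fun h => not_dvd_two hv h2 (hv.dvd_of_dvd_pow (show v ∣ 2 ^ 2 from h))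

theorem not_dvd_eight {v : ℕ} (hv : v.Prime) (h2 : v ≠ 2) : ¬ v ∣ 8 :=
  fun h => not_dvd_two hv h2 (hv.dvd_of_dvd_pow (show v ∣ 2 ^ 3 from h))

theorem P_prime_self {v : ℕ} (hv : v.Prime) : P v v = v := by
  have := P_pow_self (r := v) (k := 1) (a := 1) hv (fun h => hv.one_lt.ne' (Nat.dvd_one.1 h))
  simpa using this

theorem P_two_eight : P 2 8 = 8 := by
  have := P_pow_self (r := 2) (k := 3) (a := 1) Nat.prime_two (by norm_num)
  simpa using this

/-- the `v`-part for a factor with `v ∤ d` : the easy case -/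
structure Big (v p f : ℕ) (X : Art.Sh) : Prop where
  big : ∃ D, VP v D ∧ D ∣ num X (p ^ f) ∧ P v (dd X (p ^ f)) * P v (cc X p f) * P v f < D

theorem pos_P {v : ℕ} (hv : v.Prime) (n : ℕ) : 0 < P v n := P_pos hv

/-- if `v` divides neither `dd` nor `cc`, one factor is enough -/
theorem Big.easy {v p f : ℕ} {X : Art.Sh} (hv : v.Prime) (h1 : ¬ v ∣ dd X (p ^ f)) (h2 : ¬ v ∣ cc X p f)
    (h : v * P v f ∣ num X (p ^ f)) : Big v p f X := by
  refine ⟨v * P v f, (VP.self v).mul (VP.P v f), h, ?_⟩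
  rw [P_eq_one h1, P_eq_one h2, one_mul]
  exact Nat.mul_lt_mul_of_pos_right hv.one_lt (pos_P hv f)

section main

variable {v p f M : ℕ} {X : Art.Sh}

theorem dvd_num (hr : Art.Real X p f M) (hv : v.Prime) (hvp : v ≠ p) (hM : v ∣ M) : v ∣ num X (p ^ f) := by
  have h1 : v ∣ (p ^ f) ^ NN X * num X (p ^ f) := by rw [← hr.eq]; exact hM.mul_left _
  rcases hv.dvd_mul.1 h1 with h | h
  · exact absurd (hv.dvd_of_dvd_pow h) (hr.not_dvd_q hv hvp)
  · exact h

theorem three_dvd (hp3 : p ≠ 3) (hp : p.Prime) (i : ℕ) : 3 * P 3 f ∣ (p ^ f) ^ (2 * i) - 1 := by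
  have h0 : ¬ 3 ∣ p := fun h => hp3 ((Nat.prime_dvd_prime_iff_eq Nat.prime_three hp).1 h).symm
  refine sub_dvd Nat.prime_three hp ?_
  have h1 : (p ^ f) ^ (2 * i) = ((p ^ (f * i)) ^ 2) := by rw [← pow_mul, ← pow_mul]; congr 1; ring
  rw [h1]
  have h2 : ¬ 3 ∣ p ^ (f * i) := fun h => h0 (Nat.prime_three.dvd_of_dvd_pow h)
  set x := p ^ (f * i)
  have h3 : x % 3 = 1 ∨ x % 3 = 2 := by omega
  have h4 : x ^ 2 % 3 = 1 := by
    rcases h3 with h | h <;> simp [Nat.pow_mod, h]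
  omega

theorem q_sub_dvd (q k : ℕ) : q - 1 ∣ q ^ k - 1 := by
  have := Nat.sub_dvd_pow_sub_pow q 1 k
  rwa [one_pow] at this

theorem q_add_dvd_even (q k : ℕ) : q + 1 ∣ q ^ (2 * k) - 1 := by
  have h1 : q + 1 ∣ q ^ 2 - 1 := by
    rcases Nat.eq_zero_or_pos q with rfl | hq
    · simp
    · refine ⟨q - 1, ?_⟩
      obtain ⟨t, rfl⟩ := Nat.exists_eq_add_of_le' hq
      rw [Nat.add_sub_cancel]
      have : (t + 1) ^ 2 = (t + 1 + 1) * t + 1 := by ring
      rw [this, Nat.add_sub_cancel]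
  rw [pow_mul]
  exact h1.trans (q_sub_dvd _ _)

theorem q_add_dvd_odd (q k : ℕ) : q + 1 ∣ q ^ (2 * k + 1) + 1 := by
  have := Odd.nat_add_dvd_pow_add_pow q 1 (odd_two_mul_add_one k)
  rwa [one_pow] at this

/-- three factors with `dd ∣ s` -/
theorem big_of_three {a b c : ℕ} (hv : v.Prime) (k : ℕ) (hk : P v k ≤ 2) (hk' : v ≠ 2 → P v k = 1)
    (hcc : cc X p f = k * dd X (p ^ f)) (hk0 : k ≠ 0) (hd0 : dd X (p ^ f) ≠ 0)
    (hnum : a * (b * c) ∣ num X (p ^ f)) (ha : dd X (p ^ f) ∣ a) (hb : dd X (p ^ f) ∣ b)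
    (hc : v * P v f ∣ c) (hc2 : v = 2 → 8 * P 2 f ∣ c) : Big v p f X := by
  set d := dd X (p ^ f) with hd
  have hcv : P v (cc X p f) = P v k * P v d := by rw [hcc, P_mul hk0 hd0]
  by_cases h2 : v = 2
  · subst h2
    refine ⟨P 2 d * (P 2 d * (8 * P 2 f)), ((VP.P 2 d).mul ((VP.P 2 d).mul (VP.mul ⟨3, by norm_num⟩ (VP.P 2 f)))),
      (Nat.mul_dvd_mul ((P_dvd 2 d).trans ha) (Nat.mul_dvd_mul ((P_dvd 2 d).trans hb) (hc2 rfl))).trans hnum, ?_⟩
    rw [← hd, hcv]
    have h3 := pos_P Nat.prime_two d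
    have h4 := pos_P Nat.prime_two f
    have h5 : 0 < P 2 d * P 2 d * P 2 f := Nat.mul_pos (Nat.mul_pos h3 h3) h4
    calc P 2 d * (P 2 k * P 2 d) * P 2 f = P 2 k * (P 2 d * P 2 d * P 2 f) := by ring
      _ ≤ 2 * (P 2 d * P 2 d * P 2 f) := Nat.mul_le_mul_right _ hk
      _ < 8 * (P 2 d * P 2 d * P 2 f) := Nat.mul_lt_mul_of_pos_right (by norm_num) h5
      _ = P 2 d * (P 2 d * (8 * P 2 f)) := by ring
  · refine ⟨P v d * (P v d * (v * P v f)), ((VP.P v d).mul ((VP.P v d).mul ((VP.self v).mul (VP.P v f)))),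
      (Nat.mul_dvd_mul ((P_dvd v d).trans ha) (Nat.mul_dvd_mul ((P_dvd v d).trans hb) hc)).trans hnum, ?_⟩
    rw [← hd, hcv, hk' h2, one_mul]
    have h3 := pos_P hv d
    have h4 := pos_P hv f
    have h5 : 0 < P v d * P v d * P v f := Nat.mul_pos (Nat.mul_pos h3 h3) h4
    calc P v d * P v d * P v f = 1 * (P v d * P v d * P v f) := by ring
      _ < v * (P v d * P v d * P v f) := Nat.mul_lt_mul_of_pos_right hv.one_lt h5
      _ = P v d * (P v d * (v * P v f)) := by ring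

theorem dvd_prod_three {g : ℕ → ℕ} {m a b c : ℕ} (hm : 3 ≤ m) (ha : a ∣ g 0) (hb : b ∣ g 1) (hc : c ∣ g 2) :
    a * (b * c) ∣ ∏ i ∈ range m, g i := by
  obtain ⟨k, rfl⟩ := Nat.exists_eq_add_of_le hm
  rw [Finset.prod_range_add]
  refine Dvd.dvd.mul_right ?_ _
  rw [Finset.prod_range_succ, Finset.prod_range_succ, Finset.prod_range_one, mul_assoc]
  exact Nat.mul_dvd_mul ha (Nat.mul_dvd_mul hb hc)

theorem dvd_prod_two {g : ℕ → ℕ} {m a b : ℕ} (hm : 2 ≤ m) (ha : a ∣ g 0) (hb : b ∣ g 1) :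
    a * b ∣ ∏ i ∈ range m, g i := by
  obtain ⟨k, rfl⟩ := Nat.exists_eq_add_of_le hm
  rw [Finset.prod_range_add]
  refine Dvd.dvd.mul_right ?_ _
  rw [Finset.prod_range_succ, Finset.prod_range_one]
  exact Nat.mul_dvd_mul ha hb

theorem dvd_prod_one {g : ℕ → ℕ} {m a : ℕ} (hm : 1 ≤ m) (ha : a ∣ g 0) :
    a ∣ ∏ i ∈ range m, g i :=
  ha.trans (Finset.dvd_prod_of_mem g (Finset.mem_range.2 hm))

theorem exists_factor {v m : ℕ} (hv : v.Prime) {g : ℕ → ℕ} (h : v ∣ ∏ i ∈ range m, g i) : ∃ i < m, v ∣ g i := by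
  obtain ⟨i, hi, hd⟩ := (hv.prime.dvd_finsetProd_iff g).1 h
  exact ⟨i, Finset.mem_range.1 hi, hd⟩

theorem dvd_prod_of {g : ℕ → ℕ} {m i a : ℕ} (hi : i < m) (ha : a ∣ g i) : a ∣ ∏ i ∈ range m, g i :=
  ha.trans (Finset.dvd_prod_of_mem g (Finset.mem_range.2 hi))

theorem two_not (hp : p.Prime) (h : (2 : ℕ) ≠ p) : p ≠ 2 := fun h' => h h'.symm

theorem big_L (n : ℕ) (hr : Art.Real (.L n) p f M) (hv : v.Prime) (hvp : v ≠ p) (hM : v ∣ M) :
    Big v p f (.L n) := by
  have hp := hr.hp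
  have hn : 2 ≤ n := hr.ok.1
  have hnum := dvd_num hr hv hvp hM
  have hd : dd (.L n) (p ^ f) = Nat.gcd n (p ^ f - 1) := rfl
  have hcc : cc (.L n) p f = (if n = 2 then 1 else 2) * dd (.L n) (p ^ f) := rfl
  have hk0 : (if n = 2 then 1 else 2) ≠ 0 := by split_ifs <;> norm_num
  have hd0 := hr.dd_ne
  have hP2 : P 2 2 = 2 := P_prime_self Nat.prime_two
  by_cases hvd : v ∣ dd (.L n) (p ^ f)
  · have hvn : v ∣ n := hvd.trans (Nat.gcd_dvd_left _ _)
    have hvq : v ∣ p ^ f - 1 := hvd.trans (Nat.gcd_dvd_right _ _)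
    have hdq : dd (.L n) (p ^ f) ∣ p ^ f - 1 := Nat.gcd_dvd_right _ _
    have hF : v * P v f ∣ p ^ f - 1 := by
      have := sub_dvd (i := 1) hv hp (by rwa [pow_one])
      rwa [pow_one] at this
    rcases Nat.lt_or_ge n 4 with hn4 | hn4
    · -- `n = 2` or `n = 3`
      have hv23 : v = n := by
        have : v ≤ n := Nat.le_of_dvd (by omega) hvn
        have h2 := hv.two_le
        interval_cases n
        · omega
        · rcases (show v = 2 ∨ v = 3 by omega) with h | h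
          · subst h; omega
          · exact h
      subst hv23
      have hdv : dd (.L v) (p ^ f) = v := Nat.gcd_eq_left hvq
      rcases (show v = 2 ∨ v = 3 by omega) with rfl | rfl
      · refine ⟨8 * P 2 f, VP.mul ⟨3, by norm_num⟩ (VP.P 2 f), ?_, ?_⟩
        · exact dvd_prod_one (by norm_num) (eight_dvd (i := 1) hp (two_not hp hvp))
        · rw [hcc, hdv, if_pos rfl, one_mul, hP2]
          have := pos_P hv f
          omega
      · refine ⟨(3 * P 3 f) * (3 * (3 * P 3 f)), ((VP.self 3).mul (VP.P 3 f)).mul ((VP.self 3).mul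
          ((VP.self 3).mul (VP.P 3 f))), ?_, ?_⟩
        · refine dvd_prod_two (by norm_num) (hF.trans (q_sub_dvd _ _)) ?_
          show _ ∣ (p ^ f) ^ (1 + 2) - 1
          obtain ⟨t, ht⟩ := hvq
          have hq1 : p ^ f = 3 * t + 1 := by have := hr.q_ge; omega
          have h1 : (p ^ f) ^ (1 + 2) - 1 = (3 * (3 * t ^ 2 + 3 * t + 1)) * (p ^ f - 1) := by
            rw [hq1, Nat.add_sub_cancel]
            have : (3 * t + 1) ^ (1 + 2) = (3 * (3 * t ^ 2 + 3 * t + 1)) * (3 * t) + 1 := by ring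
            rw [this, Nat.add_sub_cancel]
          rw [h1]
          exact Nat.mul_dvd_mul (Dvd.intro _ rfl) hF
        · rw [hcc, hdv, if_neg (by norm_num), P_mul (by norm_num) (by norm_num), P_prime_self hv,
            P_eq_one (r := 3) (a := 2) (by norm_num)]
          have := pos_P hv f
          nlinarith
    · -- three factors
      refine big_of_three (a := p ^ f - 1) (b := p ^ f - 1) (c := (p ^ f) ^ 2 - 1) hv (if n = 2 then 1 else 2)
        ?_ ?_ hcc hk0 hd0 ?_ hdq hdq ?_ ?_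
      · split_ifs
        · have : P v 1 = 1 := P_eq_one fun h => hv.one_lt.ne' (Nat.dvd_one.1 h)
          omega
        · exact P_le (by norm_num)
      · intro h2
        split_ifs
        · exact P_eq_one fun h => hv.one_lt.ne' (Nat.dvd_one.1 h)
        · exact P_eq_one (not_dvd_two hv h2)
      · have h1 : (p ^ f - 1) * ((p ^ f - 1) * ((p ^ f) ^ 2 - 1)) =
            ((p ^ f) ^ 2 - 1) * ((p ^ f - 1) * (p ^ f - 1)) := by ring
        rw [h1]
        exact dvd_prod_three (by omega) (dvd_refl _) (q_sub_dvd _ _) (q_sub_dvd _ _)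
      · exact hF.trans (q_sub_dvd _ _)
      · rintro rfl
        exact eight_dvd (i := 1) hp (two_not hp hvp)
  · by_cases h2 : v = 2
    · subst h2
      refine ⟨8 * P 2 f, VP.mul ⟨3, by norm_num⟩ (VP.P 2 f), ?_, ?_⟩
      · exact dvd_prod_one (by omega) (eight_dvd (i := 1) hp (two_not hp hvp))
      · rw [hcc, P_eq_one hvd, P_mul hk0 hd0, P_eq_one hvd, mul_one, one_mul]
        have h3 : P 2 (if n = 2 then 1 else 2) ≤ 2 := by
          split_ifs
          · have : P 2 1 = 1 := P_eq_one (by norm_num)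
            omega
          · exact hP2.le
        have := pos_P hv f
        nlinarith
    · refine Big.easy hv hvd ?_ ?_
      · rw [hcc]
        intro h
        rcases hv.dvd_mul.1 h with h | h
        · split_ifs at h
          · exact hv.one_lt.ne' (Nat.dvd_one.1 h)
          · exact not_dvd_two hv h2 h
        · exact hvd h
      · obtain ⟨i, hi, h⟩ := exists_factor hv hnum
        exact dvd_prod_of hi (sub_dvd hv hp h)

theorem big_U (n : ℕ) (hr : Art.Real (.U n) p f M) (hv : v.Prime) (hvp : v ≠ p) (hM : v ∣ M) :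
    Big v p f (.U n) := by
  have hp := hr.hp
  have hn : 3 ≤ n := hr.ok.1
  have hnum := dvd_num hr hv hvp hM
  have hcc : cc (.U n) p f = 2 * dd (.U n) (p ^ f) := rfl
  have hd0 := hr.dd_ne
  have hP2 : P 2 2 = 2 := P_prime_self Nat.prime_two
  by_cases hvd : v ∣ dd (.U n) (p ^ f)
  · have hvn : v ∣ n := hvd.trans (Nat.gcd_dvd_left _ _)
    have hvq : v ∣ p ^ f + 1 := hvd.trans (Nat.gcd_dvd_right _ _)
    have hdq : dd (.U n) (p ^ f) ∣ p ^ f + 1 := Nat.gcd_dvd_right _ _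
    rcases Nat.lt_or_ge n 4 with hn4 | hn4
    · -- `n = 3`
      have hn3 : n = 3 := by omega
      subst hn3
      have hv3 : v = 3 := (Nat.prime_dvd_prime_iff_eq hv Nat.prime_three).1 hvn
      subst hv3
      have hF : 3 * P 3 f ∣ p ^ f + 1 := by
        have := add_dvd (i := 1) hv (by norm_num) (by rwa [pow_one])
        rwa [pow_one] at this
      have hdv : dd (.U 3) (p ^ f) = 3 := Nat.gcd_eq_left hvq
      refine ⟨(3 * P 3 f) * (3 * (3 * P 3 f)), ((VP.self 3).mul (VP.P 3 f)).mul ((VP.self 3).mul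
          ((VP.self 3).mul (VP.P 3 f))), ?_, ?_⟩
      · refine dvd_prod_two (by norm_num) (hF.trans (q_add_dvd_even _ 1)) ?_
        show _ ∣ (p ^ f) ^ (1 + 2) + 1
        obtain ⟨t, ht⟩ := hvq
        have ht1 : 1 ≤ t := by
          by_contra h
          have : t = 0 := by omega
          subst this
          omega
        obtain ⟨s, rfl⟩ := Nat.exists_eq_add_of_le' ht1
        have hq1 : p ^ f = 3 * s + 2 := by omega
        have h1 : (p ^ f) ^ (1 + 2) + 1 = (3 * (3 * s ^ 2 + 3 * s + 1)) * (p ^ f + 1) := by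
          rw [hq1]; ring
        rw [h1]
        exact Nat.mul_dvd_mul (Dvd.intro _ rfl) hF
      · rw [hcc, hdv, P_mul (by norm_num) (by norm_num), P_prime_self hv,
          P_eq_one (r := 3) (a := 2) (by norm_num)]
        have := pos_P hv f
        nlinarith
    · refine big_of_three (a := p ^ f + 1) (b := p ^ f + 1) (c := (p ^ f) ^ 2 - 1) hv 2
        (P_le (by norm_num)) (fun h2 => P_eq_one (not_dvd_two hv h2)) hcc (by norm_num) hd0 ?_ hdq hdq ?_ ?_
      · have h1 : (p ^ f + 1) * ((p ^ f + 1) * ((p ^ f) ^ 2 - 1)) =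
            ((p ^ f) ^ 2 - 1) * ((p ^ f + 1) * (p ^ f + 1)) := by ring
        rw [h1]
        exact dvd_prod_three (by omega) (dvd_refl _) (q_add_dvd_odd _ 1) (q_add_dvd_even _ 2)
      · exact sub_dvd hv hp (hvq.trans (q_add_dvd_even _ 1))
      · rintro rfl
        exact eight_dvd (i := 1) hp (two_not hp hvp)
  · by_cases h2 : v = 2
    · subst h2
      refine ⟨8 * P 2 f, VP.mul ⟨3, by norm_num⟩ (VP.P 2 f), ?_, ?_⟩
      · exact dvd_prod_one (by omega) (eight_dvd (i := 1) hp (two_not hp hvp))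
      · rw [hcc, P_eq_one hvd, P_mul (by norm_num) hd0, P_eq_one hvd, mul_one, one_mul, hP2]
        have := pos_P hv f
        omega
    · refine Big.easy hv hvd ?_ ?_
      · rw [hcc]
        intro h
        rcases hv.dvd_mul.1 h with h | h
        · exact not_dvd_two hv h2 h
        · exact hvd h
      · obtain ⟨i, hi, h⟩ := exists_factor hv hnum
        refine dvd_prod_of hi ?_
        split_ifs at h ⊢
        · exact sub_dvd hv hp h
        · exact add_dvd hv h2 h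

theorem Big.of {D B : ℕ} (hD : VP v D) (hd : D ∣ num X (p ^ f)) {a b : ℕ} (ha : P v (dd X (p ^ f)) ≤ a)
    (hb : P v (cc X p f) ≤ b) (hB : a * b ≤ B) (hlt : B * P v f < D) : Big v p f X :=
  ⟨D, hD, hd, lt_of_le_of_lt (Nat.mul_le_mul_right _ ((Nat.mul_le_mul ha hb).trans hB)) hlt⟩

theorem P_le_two_of {n : ℕ} (hn : n ≠ 0) : P v n ≤ n := P_le hn

theorem gcd_two_ne (n : ℕ) : Nat.gcd 2 n ≠ 0 := Nat.gcd_ne_zero_left (by norm_num)

theorem gcd_le (a n : ℕ) (ha : 0 < a) : Nat.gcd a n ≤ a := Nat.gcd_le_left n ha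

theorem big_C (n : ℕ) (hr : Art.Real (.C n) p f M) (hv : v.Prime) (hvp : v ≠ p) (hM : v ∣ M) :
    Big v p f (.C n) := by
  have hp := hr.hp
  have hn : 2 ≤ n := hr.ok.1
  have hnum := dvd_num hr hv hvp hM
  have hdd : dd (.C n) (p ^ f) = Nat.gcd 2 (p ^ f - 1) := rfl
  have hcc : cc (.C n) p f = (if n = 2 ∧ p = 2 then 2 else 1) * Nat.gcd 2 (p ^ f - 1) := rfl
  by_cases h2 : v = 2
  · subst h2
    refine Big.of (D := 8 * P 2 f) (B := 4) (a := 2) (b := 2) (VP.mul ⟨3, by norm_num⟩ (VP.P 2 f)) ?_ ?_ ?_ (by norm_num) ?_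
    · exact dvd_prod_one (by omega) (eight_dvd (i := 1) hp (two_not hp hvp))
    · rw [hdd]
      exact (P_le (gcd_two_ne _)).trans (gcd_le _ _ (by norm_num))
    · rw [hcc, if_neg (fun h => hvp h.2.symm), one_mul]
      exact (P_le (gcd_two_ne _)).trans (gcd_le _ _ (by norm_num))
    · have := pos_P hv f
      omega
  · have hg : ¬ v ∣ Nat.gcd 2 (p ^ f - 1) := fun h => not_dvd_two hv h2 (h.trans (Nat.gcd_dvd_left _ _))
    refine Big.easy hv (by rwa [hdd]) ?_ ?_
    · rw [hcc]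
      intro h
      rcases hv.dvd_mul.1 h with h | h
      · split_ifs at h
        · exact not_dvd_two hv h2 h
        · exact hv.one_lt.ne' (Nat.dvd_one.1 h)
      · exact hg h
    · obtain ⟨i, hi, h⟩ := exists_factor hv hnum
      exact dvd_prod_of hi (sub_dvd hv hp h)

theorem big_D (n : ℕ) (hr : Art.Real (.D n) p f M) (hv : v.Prime) (hvp : v ≠ p) (hM : v ∣ M) :
    Big v p f (.D n) := by
  have hp := hr.hp
  have hn : 4 ≤ n := hr.ok
  have hnum := dvd_num hr hv hvp hM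
  have hdd : dd (.D n) (p ^ f) = Nat.gcd 4 ((p ^ f) ^ n - 1) := rfl
  have hcc : cc (.D n) p f = (if n = 4 then 3 else 1) * (if p = 2 then 2 else 8) := rfl
  have hd2 : (P 2 (dd (.D n) (p ^ f))) ≤ 4 := by
    rw [hdd]
    exact (P_le (Nat.gcd_ne_zero_left (by norm_num))).trans (gcd_le _ _ (by norm_num))
  by_cases h2 : v = 2
  · subst h2
    refine Big.of (D := (8 * P 2 f) * (8 * P 2 f)) (B := 32) (a := 4) (b := 8)
      ((VP.mul ⟨3, by norm_num⟩ (VP.P 2 f)).mul (VP.mul ⟨3, by norm_num⟩ (VP.P 2 f))) ?_ hd2 ?_ (by norm_num) ?_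
    · refine Dvd.dvd.mul_left ?_ _
      exact dvd_prod_two (by omega) (eight_dvd (i := 1) hp (two_not hp hvp)) (eight_dvd (i := 2) hp (two_not hp hvp))
    · rw [hcc, if_neg (two_not hp hvp), P_mul (by split_ifs <;> norm_num) (by norm_num), P_two_eight, P_eq_one, one_mul]
      split_ifs <;> norm_num
    · have := pos_P hv f
      nlinarith
  · have hg : ¬ v ∣ dd (.D n) (p ^ f) := fun h => by
      rw [hdd] at h
      exact not_dvd_four hv h2 (h.trans (Nat.gcd_dvd_left _ _))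
    by_cases h3 : v = 3
    · subst h3
      refine Big.of (D := (3 * P 3 f) * (3 * P 3 f)) (B := 3) (a := 1) (b := 3)
        (((VP.self 3).mul (VP.P 3 f)).mul ((VP.self 3).mul (VP.P 3 f))) ?_ (P_eq_one hg).le ?_ (by norm_num) ?_
      · refine Dvd.dvd.mul_left ?_ _
        exact dvd_prod_two (by omega) (three_dvd (i := 1) (fun h => hvp h.symm) hp)
          (three_dvd (i := 2) (fun h => hvp h.symm) hp)
      · rw [hcc, P_mul (by split_ifs <;> norm_num) (by split_ifs <;> norm_num)]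
        have h4 : P 3 (if p = 2 then 2 else 8) = 1 := P_eq_one (by split_ifs <;> norm_num)
        rw [h4, mul_one]
        exact (P_le (by split_ifs <;> norm_num)).trans (by split_ifs <;> norm_num)
      · have := pos_P hv f
        nlinarith
    · refine Big.easy hv hg ?_ ?_
      · rw [hcc]
        intro h
        rcases hv.dvd_mul.1 h with h | h
        · split_ifs at h
          · exact not_dvd_three hv h3 h
          · exact hv.one_lt.ne' (Nat.dvd_one.1 h)
        · split_ifs at h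
          · exact not_dvd_two hv h2 h
          · exact not_dvd_eight hv h2 h
      · rcases hv.dvd_mul.1 hnum with h | h
        · exact (sub_dvd hv hp h).mul_right _
        · obtain ⟨i, hi, h⟩ := exists_factor hv h
          exact Dvd.dvd.mul_left (dvd_prod_of hi (sub_dvd hv hp h)) _

theorem big_DD (n : ℕ) (hr : Art.Real (.DD n) p f M) (hv : v.Prime) (hvp : v ≠ p) (hM : v ∣ M) :
    Big v p f (.DD n) := by
  have hp := hr.hp
  have hn : 4 ≤ n := hr.ok
  have hnum := dvd_num hr hv hvp hM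
  have hdd : dd (.DD n) (p ^ f) = Nat.gcd 4 ((p ^ f) ^ n + 1) := rfl
  have hcc : cc (.DD n) p f = (if p = 2 then 2 else 8) := rfl
  by_cases h2 : v = 2
  · subst h2
    refine Big.of (D := (8 * P 2 f) * (8 * P 2 f)) (B := 32) (a := 4) (b := 8)
      ((VP.mul ⟨3, by norm_num⟩ (VP.P 2 f)).mul (VP.mul ⟨3, by norm_num⟩ (VP.P 2 f))) ?_ ?_ ?_ (by norm_num) ?_
    · refine Dvd.dvd.mul_left ?_ _
      exact dvd_prod_two (by omega) (eight_dvd (i := 1) hp (two_not hp hvp)) (eight_dvd (i := 2) hp (two_not hp hvp))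
    · rw [hdd]
      exact (P_le (Nat.gcd_ne_zero_left (by norm_num))).trans (gcd_le _ _ (by norm_num))
    · rw [hcc, if_neg (two_not hp hvp), P_two_eight]
    · have := pos_P hv f
      nlinarith
  · refine Big.easy hv ?_ ?_ ?_
    · intro h
      rw [hdd] at h
      exact not_dvd_four hv h2 (h.trans (Nat.gcd_dvd_left _ _))
    · rw [hcc]
      intro h
      split_ifs at h
      · exact not_dvd_two hv h2 h
      · exact not_dvd_eight hv h2 h
    · rcases hv.dvd_mul.1 hnum with h | h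
      · exact (add_dvd hv h2 h).mul_right _
      · obtain ⟨i, hi, h⟩ := exists_factor hv h
        exact Dvd.dvd.mul_left (dvd_prod_of hi (sub_dvd hv hp h)) _

theorem lift_mul (hv : v.Prime) {w a b : ℕ} (ha : v ∣ a → w ∣ a) (hb : v ∣ b → w ∣ b) : v ∣ a * b → w ∣ a * b := by
  intro h
  rcases hv.dvd_mul.1 h with h | h
  · exact (ha h).mul_right _
  · exact (hb h).mul_left _

/-- `v F` divides the order -/
theorem lift_num (hr : Art.Real X p f M) (hv : v.Prime) (h2 : v ≠ 2) (h : v ∣ num X (p ^ f)) :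
    v * P v f ∣ num X (p ^ f) := by
  have hp := hr.hp
  have hs : ∀ i : ℕ, v ∣ (p ^ f) ^ i - 1 → v * P v f ∣ (p ^ f) ^ i - 1 := fun i h => sub_dvd hv hp h
  have ha : ∀ i : ℕ, v ∣ (p ^ f) ^ i + 1 → v * P v f ∣ (p ^ f) ^ i + 1 := fun i h => add_dvd hv h2 h
  have h1 : v ∣ p ^ f - 1 → v * P v f ∣ p ^ f - 1 := fun h => by
    have := hs 1 (by rwa [pow_one])
    rwa [pow_one] at this
  cases X with
  | L n =>
    obtain ⟨i, hi, h⟩ := exists_factor hv h
    exact dvd_prod_of hi (hs _ h)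
  | C n =>
    obtain ⟨i, hi, h⟩ := exists_factor hv h
    exact dvd_prod_of hi (hs _ h)
  | U n =>
    obtain ⟨i, hi, h⟩ := exists_factor hv h
    refine dvd_prod_of hi ?_
    split_ifs at h ⊢
    · exact hs _ h
    · exact ha _ h
  | D n =>
    refine lift_mul hv (hs _) (fun h => ?_) h
    obtain ⟨i, hi, h⟩ := exists_factor hv h
    exact dvd_prod_of hi (hs _ h)
  | DD n =>
    refine lift_mul hv (ha _) (fun h => ?_) h
    obtain ⟨i, hi, h⟩ := exists_factor hv h
    exact dvd_prod_of hi (hs _ h)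
  | G2 => exact lift_mul hv (hs _) (hs _) h
  | F4 => exact lift_mul hv (lift_mul hv (lift_mul hv (hs _) (hs _)) (hs _)) (hs _) h
  | E6 =>
    exact lift_mul hv (lift_mul hv (lift_mul hv (lift_mul hv (lift_mul hv (hs _) (hs _)) (hs _)) (hs _)) (hs _))
      (hs _) h
  | E7 =>
    exact lift_mul hv (lift_mul hv (lift_mul hv (lift_mul hv (lift_mul hv (lift_mul hv (hs _) (hs _)) (hs _))
      (hs _)) (hs _)) (hs _)) (hs _) h
  | E8 =>
    exact lift_mul hv (lift_mul hv (lift_mul hv (lift_mul hv (lift_mul hv (lift_mul hv (lift_mul hv (hs _) (hs _))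
      (hs _)) (hs _)) (hs _)) (hs _)) (hs _)) (hs _) h
  | TE6 =>
    exact lift_mul hv (lift_mul hv (lift_mul hv (lift_mul hv (lift_mul hv (hs _) (ha _)) (hs _)) (hs _)) (ha _))
      (hs _) h
  | TD4 =>
    by_cases hv3 : v = 3
    · subst hv3
      have hp3 : p ≠ 3 := by
        rintro rfl
        exact hr.not_dvd_num h
      exact Dvd.dvd.mul_right (Dvd.dvd.mul_right (three_dvd (i := 1) hp3 hp) _) _
    refine lift_mul hv (lift_mul hv (hs _) (hs _)) (fun h => ?_) h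
    have hq := hr.q_ge
    have hprod : (p ^ f) ^ 12 - 1 = ((p ^ f) ^ 4 - 1) * ((p ^ f) ^ 8 + (p ^ f) ^ 4 + 1) := by
      obtain ⟨t, ht⟩ := Nat.exists_eq_add_of_le' (Nat.one_le_pow 4 (p ^ f) (by omega))
      have e1 : (p ^ f) ^ 12 = ((p ^ f) ^ 4) ^ 3 := by ring
      have e2 : (p ^ f) ^ 8 = ((p ^ f) ^ 4) ^ 2 := by ring
      rw [e1, e2, ht, Nat.add_sub_cancel]
      have : (t + 1) ^ 3 = t * ((t + 1) ^ 2 + (t + 1) + 1) + 1 := by ring
      rw [this, Nat.add_sub_cancel]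
    have h3 : v * P v f ∣ (p ^ f) ^ 12 - 1 := hs 12 (by rw [hprod]; exact h.mul_left _)
    have h4 : ¬ v ∣ (p ^ f) ^ 4 - 1 := by
      intro h4
      obtain ⟨t, ht⟩ := h4
      have h6 : (p ^ f) ^ 4 = v * t + 1 := by
        have := Nat.one_le_pow 4 (p ^ f) (by omega)
        omega
      have h7 : (p ^ f) ^ 8 + (p ^ f) ^ 4 + 1 = v * (v * t ^ 2 + 3 * t) + 3 := by
        have : (p ^ f) ^ 8 = ((p ^ f) ^ 4) ^ 2 := by ring
        rw [this, h6]; ring
      rw [h7] at h
      exact not_dvd_three hv hv3 ((Nat.dvd_add_right (Dvd.intro _ rfl)).1 h)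
    rw [hprod] at h3
    refine Nat.Coprime.dvd_of_dvd_mul_left ?_ h3
    obtain ⟨k, hk⟩ := (VP.self v).mul (VP.P v f)
    rw [hk]
    exact Nat.Coprime.pow_left _ ((Nat.Prime.coprime_iff_not_dvd hv).2 h4)
  | Sz => exact lift_mul hv h1 (ha _) h
  | Ree => exact lift_mul hv h1 (ha _) h
  | TF4 => exact lift_mul hv (lift_mul hv (lift_mul hv h1 (ha _)) (hs _)) (ha _) h

theorem big_E6 (hr : Art.Real .E6 p f M) (hv : v.Prime) (hvp : v ≠ p) (hM : v ∣ M) : Big v p f .E6 := by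
  have hp := hr.hp
  have hnum := dvd_num hr hv hvp hM
  have hdd : dd .E6 (p ^ f) = Nat.gcd 3 (p ^ f - 1) := rfl
  have hcc : cc .E6 p f = 2 * dd .E6 (p ^ f) := rfl
  have hg0 : dd .E6 (p ^ f) ≠ 0 := Nat.gcd_ne_zero_left (by norm_num)
  have hg3 : dd .E6 (p ^ f) ≤ 3 := gcd_le _ _ (by norm_num)
  by_cases h2 : v = 2
  · subst h2
    have h1 : P 2 (dd .E6 (p ^ f)) = 1 := P_eq_one fun h => by
      have := h.trans (Nat.gcd_dvd_left 3 (p ^ f - 1)); omega
    refine Big.of (D := 8 * P 2 f) (B := 2) (a := 1) (b := 2) (VP.mul ⟨3, by norm_num⟩ (VP.P 2 f)) ?_ h1.le ?_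
      (by norm_num) ?_
    · exact Dvd.dvd.mul_right (Dvd.dvd.mul_right (Dvd.dvd.mul_right (Dvd.dvd.mul_right (Dvd.dvd.mul_right
        (eight_dvd (i := 1) hp (two_not hp hvp)) _) _) _) _) _
    · rw [hcc, P_mul (by norm_num) hg0, h1, mul_one]
      exact P_le (by norm_num)
    · have := pos_P hv f
      omega
  · by_cases h3 : v = 3
    · subst h3
      have hp3 : p ≠ 3 := fun h => hvp h.symm
      refine Big.of (D := (3 * P 3 f) * ((3 * P 3 f) * (3 * P 3 f))) (B := 9) (a := 3) (b := 3)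
        (((VP.self 3).mul (VP.P 3 f)).mul (((VP.self 3).mul (VP.P 3 f)).mul ((VP.self 3).mul (VP.P 3 f)))) ?_
        ((P_le hg0).trans hg3) ?_ (by norm_num) ?_
      · have e : num .E6 (p ^ f) = (((p ^ f) ^ 2 - 1) * (((p ^ f) ^ 6 - 1) * ((p ^ f) ^ 8 - 1))) *
            (((p ^ f) ^ 5 - 1) * ((p ^ f) ^ 9 - 1) * ((p ^ f) ^ 12 - 1)) := by
          show ((p ^ f) ^ 2 - 1) * ((p ^ f) ^ 5 - 1) * ((p ^ f) ^ 6 - 1) * ((p ^ f) ^ 8 - 1) * ((p ^ f) ^ 9 - 1) *
            ((p ^ f) ^ 12 - 1) = _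
          ring
        rw [e]
        exact Dvd.dvd.mul_right (Nat.mul_dvd_mul (three_dvd (i := 1) hp3 hp) (Nat.mul_dvd_mul
          (three_dvd (i := 3) hp3 hp) (three_dvd (i := 4) hp3 hp))) _
      · rw [hcc, P_mul (by norm_num) hg0, P_eq_one (r := 3) (a := 2) (by norm_num), one_mul]
        exact (P_le hg0).trans hg3
      · have := pos_P hv f
        have h4 : 1 ≤ P 3 f * P 3 f := Nat.mul_pos this this
        nlinarith
    · have hg : ¬ v ∣ dd .E6 (p ^ f) := fun h => not_dvd_three hv h3 (h.trans (Nat.gcd_dvd_left 3 (p ^ f - 1)))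
      refine Big.easy hv hg ?_ (lift_num hr hv h2 hnum)
      rw [hcc]
      intro h
      rcases hv.dvd_mul.1 h with h | h
      · exact not_dvd_two hv h2 h
      · exact hg h

theorem big_TE6 (hr : Art.Real .TE6 p f M) (hv : v.Prime) (hvp : v ≠ p) (hM : v ∣ M) : Big v p f .TE6 := by
  have hp := hr.hp
  have hnum := dvd_num hr hv hvp hM
  have hdd : dd .TE6 (p ^ f) = Nat.gcd 3 (p ^ f + 1) := rfl
  have hcc : cc .TE6 p f = 2 * dd .TE6 (p ^ f) := rfl
  have hg0 : dd .TE6 (p ^ f) ≠ 0 := Nat.gcd_ne_zero_left (by norm_num)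
  have hg3 : dd .TE6 (p ^ f) ≤ 3 := gcd_le _ _ (by norm_num)
  by_cases h2 : v = 2
  · subst h2
    have h1 : P 2 (dd .TE6 (p ^ f)) = 1 := P_eq_one fun h => by
      have := h.trans (Nat.gcd_dvd_left 3 (p ^ f + 1)); omega
    refine Big.of (D := 8 * P 2 f) (B := 2) (a := 1) (b := 2) (VP.mul ⟨3, by norm_num⟩ (VP.P 2 f)) ?_ h1.le ?_
      (by norm_num) ?_
    · exact Dvd.dvd.mul_right (Dvd.dvd.mul_right (Dvd.dvd.mul_right (Dvd.dvd.mul_right (Dvd.dvd.mul_right
        (eight_dvd (i := 1) hp (two_not hp hvp)) _) _) _) _) _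
    · rw [hcc, P_mul (by norm_num) hg0, h1, mul_one]
      exact P_le (by norm_num)
    · have := pos_P hv f
      omega
  · by_cases h3 : v = 3
    · subst h3
      have hp3 : p ≠ 3 := fun h => hvp h.symm
      refine Big.of (D := (3 * P 3 f) * ((3 * P 3 f) * (3 * P 3 f))) (B := 9) (a := 3) (b := 3)
        (((VP.self 3).mul (VP.P 3 f)).mul (((VP.self 3).mul (VP.P 3 f)).mul ((VP.self 3).mul (VP.P 3 f)))) ?_
        ((P_le hg0).trans hg3) ?_ (by norm_num) ?_
      · have e : num .TE6 (p ^ f) = (((p ^ f) ^ 2 - 1) * (((p ^ f) ^ 6 - 1) * ((p ^ f) ^ 8 - 1))) *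
            (((p ^ f) ^ 5 + 1) * ((p ^ f) ^ 9 + 1) * ((p ^ f) ^ 12 - 1)) := by
          show ((p ^ f) ^ 2 - 1) * ((p ^ f) ^ 5 + 1) * ((p ^ f) ^ 6 - 1) * ((p ^ f) ^ 8 - 1) * ((p ^ f) ^ 9 + 1) *
            ((p ^ f) ^ 12 - 1) = _
          ring
        rw [e]
        exact Dvd.dvd.mul_right (Nat.mul_dvd_mul (three_dvd (i := 1) hp3 hp) (Nat.mul_dvd_mul
          (three_dvd (i := 3) hp3 hp) (three_dvd (i := 4) hp3 hp))) _
      · rw [hcc, P_mul (by norm_num) hg0, P_eq_one (r := 3) (a := 2) (by norm_num), one_mul]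
        exact (P_le hg0).trans hg3
      · have := pos_P hv f
        have h4 : 1 ≤ P 3 f * P 3 f := Nat.mul_pos this this
        nlinarith
    · have hg : ¬ v ∣ dd .TE6 (p ^ f) := fun h => not_dvd_three hv h3 (h.trans (Nat.gcd_dvd_left 3 (p ^ f + 1)))
      refine Big.easy hv hg ?_ (lift_num hr hv h2 hnum)
      rw [hcc]
      intro h
      rcases hv.dvd_mul.1 h with h | h
      · exact not_dvd_two hv h2 h
      · exact hg h

/-- shapes with `dd * cc` dividing `4` -/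
theorem big_small (hr : Art.Real X p f M) (hv : v.Prime) (hvp : v ≠ p) (hM : v ∣ M)
    (hdd : dd X (p ^ f) ∣ 2) (hcc : cc X p f ∣ 2) (h8 : p ≠ 2 → 8 * P 2 f ∣ num X (p ^ f)) : Big v p f X := by
  have hnum := dvd_num hr hv hvp hM
  by_cases h2 : v = 2
  · subst h2
    refine Big.of (D := 8 * P 2 f) (B := 4) (a := 2) (b := 2) (VP.mul ⟨3, by norm_num⟩ (VP.P 2 f))
      (h8 (fun h => hvp h.symm)) ?_ ?_ (by norm_num) ?_
    · exact P_le_of_dvd (by norm_num) hdd
    · exact P_le_of_dvd (by norm_num) hcc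
    · have := pos_P hv f
      omega
  · exact Big.easy hv (fun h => not_dvd_two hv h2 (h.trans hdd)) (fun h => not_dvd_two hv h2 (h.trans hcc))
      (lift_num hr hv h2 hnum)

theorem big_TD4 (hr : Art.Real .TD4 p f M) (hv : v.Prime) (hvp : v ≠ p) (hM : v ∣ M) : Big v p f .TD4 := by
  have hp := hr.hp
  have hnum := dvd_num hr hv hvp hM
  have h11 : ∀ {v : ℕ}, v.Prime → P v 1 = 1 := fun hv => P_eq_one fun h => hv.one_lt.ne' (Nat.dvd_one.1 h)
  by_cases h2 : v = 2
  · subst h2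
    refine Big.of (D := 8 * P 2 f) (B := 3) (a := 1) (b := 3) (VP.mul ⟨3, by norm_num⟩ (VP.P 2 f)) ?_ (h11 hv).le ?_
      (by norm_num) ?_
    · exact Dvd.dvd.mul_right (Dvd.dvd.mul_right (eight_dvd (i := 1) hp (two_not hp hvp)) _) _
    · exact P_le (by norm_num [cc])
    · have := pos_P hv f
      omega
  · by_cases h3 : v = 3
    · subst h3
      have hp3 : p ≠ 3 := fun h => hvp h.symm
      refine Big.of (D := (3 * P 3 f) * (3 * P 3 f)) (B := 3) (a := 1) (b := 3)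
        (((VP.self 3).mul (VP.P 3 f)).mul ((VP.self 3).mul (VP.P 3 f))) ?_ (h11 hv).le (P_le (by norm_num [cc]))
        (by norm_num) ?_
      · exact Dvd.dvd.mul_right (Nat.mul_dvd_mul (three_dvd (i := 1) hp3 hp) (three_dvd (i := 3) hp3 hp)) _
      · have := pos_P hv f
        nlinarith
    · exact Big.easy hv (fun h => hv.one_lt.ne' (Nat.dvd_one.1 h)) (not_dvd_three hv h3) (lift_num hr hv h2 hnum)

/-- shapes with `dd = cc = 1`, odd `f` -/
theorem big_odd (hr : Art.Real X p f M) (hv : v.Prime) (hvp : v ≠ p) (hM : v ∣ M)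
    (hdd : dd X (p ^ f) = 1) (hcc : cc X p f = 1) (hf : Odd f) : Big v p f X := by
  have hnum := dvd_num hr hv hvp hM
  have h11 : ¬ v ∣ 1 := fun h => hv.one_lt.ne' (Nat.dvd_one.1 h)
  by_cases h2 : v = 2
  · subst h2
    refine Big.easy hv (by rwa [hdd]) (by rwa [hcc]) ?_
    rw [P_eq_one (r := 2) (a := f) (fun h => (Nat.not_even_iff_odd.2 hf) (even_iff_two_dvd.2 h)), mul_one]
    exact hnum
  · exact Big.easy hv (by rwa [hdd]) (by rwa [hcc]) (lift_num hr hv h2 hnum)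

theorem big (hr : Art.Real X p f M) (hv : v.Prime) (hvp : v ≠ p) (hM : v ∣ M) : Big v p f X := by
  have hp := hr.hp
  cases X with
  | L n => exact big_L n hr hv hvp hM
  | C n => exact big_C n hr hv hvp hM
  | U n => exact big_U n hr hv hvp hM
  | D n => exact big_D n hr hv hvp hM
  | DD n => exact big_DD n hr hv hvp hM
  | G2 =>
    refine big_small hr hv hvp hM (one_dvd _) ?_ (fun h => ?_)
    · show (if p = 3 then 2 else 1) ∣ 2
      split_ifs <;> norm_num
    · exact Dvd.dvd.mul_right (eight_dvd (i := 1) hp h) _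
  | F4 =>
    refine big_small hr hv hvp hM (one_dvd _) (Nat.gcd_dvd_left 2 p) (fun h => ?_)
    exact Dvd.dvd.mul_right (Dvd.dvd.mul_right (Dvd.dvd.mul_right (eight_dvd (i := 1) hp h) _) _) _
  | E6 => exact big_E6 hr hv hvp hM
  | E7 =>
    refine big_small hr hv hvp hM (Nat.gcd_dvd_left 2 _) (Nat.gcd_dvd_left 2 _) (fun h => ?_)
    exact Dvd.dvd.mul_right (Dvd.dvd.mul_right (Dvd.dvd.mul_right (Dvd.dvd.mul_right (Dvd.dvd.mul_right
      (Dvd.dvd.mul_right (eight_dvd (i := 1) hp h) _) _) _) _) _) _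
  | E8 =>
    refine big_small hr hv hvp hM (one_dvd _) (one_dvd _) (fun h => ?_)
    exact Dvd.dvd.mul_right (Dvd.dvd.mul_right (Dvd.dvd.mul_right (Dvd.dvd.mul_right (Dvd.dvd.mul_right
      (Dvd.dvd.mul_right (Dvd.dvd.mul_right (eight_dvd (i := 1) hp h) _) _) _) _) _) _) _
  | TE6 => exact big_TE6 hr hv hvp hM
  | TD4 => exact big_TD4 hr hv hvp hM
  | Sz => exact big_odd hr hv hvp hM rfl rfl hr.ok.2.1
  | Ree => exact big_odd hr hv hvp hM rfl rfl hr.ok.2.1
  | TF4 => exact big_odd hr hv hvp hM rfl rfl hr.ok.2.1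

theorem lt_two_pow (f : ℕ) : f < 2 ^ f := Nat.lt_two_pow_self

theorem P_f_lt (hr : Art.Real X p f M) : P v f < p ^ f := by
  have hf := hr.hf
  calc P v f ≤ f := P_le (by omega)
    _ < 2 ^ f := Nat.lt_two_pow_self
    _ ≤ p ^ f := Nat.pow_le_pow_left hr.hp.two_le f

theorem P_cc_self (hr : Art.Real X p f M) : P p (cc X p f) ≤ p := by
  have hp := hr.hp
  have hnd := hr.not_dvd_dd
  have hd0 := hr.dd_ne
  have h1 := cc_dvd X p f
  by_cases h2 : p = 2
  · refine (P_mono hp (mul_ne_zero (by norm_num) hd0) (h1.2 h2)).trans ?_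
    rw [P_mul (by norm_num) hd0, P_eq_one hnd, mul_one]
    subst h2
    have : P 2 6 = 2 := by
      have := P_pow_self (r := 2) (k := 1) (a := 3) Nat.prime_two (by norm_num)
      simpa using this
    exact this.le
  · refine (P_mono hp (mul_ne_zero (by norm_num) hd0) h1.1).trans ?_
    rw [P_mul (by norm_num) hd0, P_eq_one hnd, mul_one]
    by_cases h3 : p = 3
    · subst h3
      have : P 3 48 = 3 := by
        have := P_pow_self (r := 3) (k := 1) (a := 16) Nat.prime_three (by norm_num)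
        simpa using this
      exact this.le
    · rw [P_eq_one]
      · exact hp.one_lt.le
      · intro h
        have h4 : p ∣ 2 ^ 4 * 3 := by norm_num; exact h
        rcases hp.dvd_mul.1 h4 with h4 | h4
        · exact not_dvd_two hp h2 (hp.dvd_of_dvd_pow h4)
        · exact not_dvd_three hp h3 h4

/-- **The `v`-part of the order does not divide `cc * f`.** -/
theorem not_dvd (hr : Art.Real X p f M) (hv : v.Prime) (hM : v ∣ M) : ¬ v ^ M.factorization v ∣ cc X p f * f := by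
  intro hd
  have hp := hr.hp
  have hf := hr.hf
  have hc0 := cc_ne X p f hr.dd_ne
  have h1 : P v M ≤ P v (cc X p f) * P v f := by
    rw [← P_mul hc0 (by omega)]
    exact VP.le hv (VP.P v M) (mul_ne_zero hc0 (by omega)) hd
  by_cases hvp : v = p
  · subst hvp
    rw [hr.P_self] at h1
    have h3 := P_f_lt (v := v) hr
    have hq := hr.q_ge
    by_cases hN : NN X = 1
    · -- `L 2`
      have hX : X = .L 2 := by
        have hok := hr.ok
        cases X with
        | L n =>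
          have hn : 2 ≤ n := hok.1
          rcases Nat.lt_or_ge n 3 with h | h
          · have : n = 2 := by omega
            rw [this]
          · exfalso
            have h4 : n * (n - 1) / 2 = 1 := hN
            have h5 : 3 * 2 ≤ n * (n - 1) := Nat.mul_le_mul h (by omega)
            omega
        | C n =>
          exfalso
          have hn : 2 ≤ n := hok.1
          have h4 : n ^ 2 = 1 := hN
          nlinarith
        | U n =>
          exfalso
          have hn : 3 ≤ n := hok.1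
          have h4 : n * (n - 1) / 2 = 1 := hN
          have h5 : 3 * 2 ≤ n * (n - 1) := Nat.mul_le_mul hn (by omega)
          omega
        | D n =>
          exfalso
          have hn : 4 ≤ n := hok
          have h4 : n * (n - 1) = 1 := hN
          have h5 : 4 * 3 ≤ n * (n - 1) := Nat.mul_le_mul hn (by omega)
          omega
        | DD n =>
          exfalso
          have hn : 4 ≤ n := hok
          have h4 : n * (n - 1) = 1 := hN
          have h5 : 4 * 3 ≤ n * (n - 1) := Nat.mul_le_mul hn (by omega)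
          omega
        | _ => exact absurd hN (by decide)
      subst hX
      have h4 : P v (cc (.L 2) v f) = 1 := by
        refine P_eq_one fun h => hr.not_dvd_dd ?_
        have h5 : cc (.L 2) v f = dd (.L 2) (v ^ f) := one_mul _
        rwa [h5] at h
      rw [h4, one_mul, hN, pow_one] at h1
      omega
    · have hN2 : 2 ≤ NN X := by
        have h0 : NN X ≠ 0 := by
          have hok := hr.ok
          cases X with
          | L n =>
            have hn : 2 ≤ n := hok.1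
            intro h4
            have h4 : n * (n - 1) / 2 = 0 := h4
            have h5 : 2 * 1 ≤ n * (n - 1) := Nat.mul_le_mul hn (by omega)
            omega
          | C n =>
            have hn : 2 ≤ n := hok.1
            exact pow_ne_zero _ (by omega)
          | U n =>
            have hn : 3 ≤ n := hok.1
            intro h4
            have h4 : n * (n - 1) / 2 = 0 := h4
            have h5 : 3 * 2 ≤ n * (n - 1) := Nat.mul_le_mul hn (by omega)
            omega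
          | D n =>
            have hn : 4 ≤ n := hok
            intro h4
            have h4 : n * (n - 1) = 0 := h4
            have h5 : 4 * 3 ≤ n * (n - 1) := Nat.mul_le_mul hn (by omega)
            omega
          | DD n =>
            have hn : 4 ≤ n := hok
            intro h4
            have h4 : n * (n - 1) = 0 := h4
            have h5 : 4 * 3 ≤ n * (n - 1) := Nat.mul_le_mul hn (by omega)
            omega
          | _ => decide
        omega
      have h4 : (v ^ f) ^ 2 ≤ (v ^ f) ^ NN X := Nat.pow_le_pow_right (by omega) hN2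
      have h5 : P v (cc X v f) * P v f < (v ^ f) * (v ^ f) := by
        have h6 : P v (cc X v f) ≤ v ^ f := (P_cc_self hr).trans (Nat.le_self_pow (by omega) v)
        calc P v (cc X v f) * P v f ≤ v ^ f * P v f := Nat.mul_le_mul_right _ h6
          _ < v ^ f * v ^ f := Nat.mul_lt_mul_of_pos_left h3 (by omega)
      have h6 : (v ^ f) ^ 2 = v ^ f * v ^ f := sq _
      omega
  · obtain ⟨D, hD, hDn, hlt⟩ := big hr hv hvp hM
    have h2 := hr.P_other hv hvp
    have h3 : D ≤ P v (num X (p ^ f)) := VP.le hv hD hr.num_ne hDn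
    have h4 : P v (dd X (p ^ f)) * P v M ≤ P v (dd X (p ^ f)) * (P v (cc X p f) * P v f) :=
      Nat.mul_le_mul_left _ h1
    rw [h2, ← mul_assoc] at h4
    omega

end main

end Cfsg.Agent.H997.PF.OutNum
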