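import Cfsg.Agent.H364.OutLie
import Cfsg.Agent.H997.PF.OutNum
import Cfsg.Agent.H149.Sp.Base
import Cfsg.Agent.H934.OutAll

/-!
# The `v`-part of `|S|` does not divide `|Out S|` (helper997)
-/

set_option autoImplicit false

namespace Cfsg.Agent.H997.PF.OutPart

open Cfsg Cfsg.Agent.OrdDiv Finset
open Cfsg.Agent.H902 Cfsg.Agent.H902.Names Cfsg.Agent.H934.OutB Cfsg.Agent.H364.OutLie
open Cfsg.Agent.H997.PF.OutNum

universe u

/-- the conclusion -/
def Cd (S : Type u) [Group S] (X : Art.Sh) (p f : ℕ) : Prop :=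
  ∃ c, Nat.card (Cfsg.Out S) = c * f ∧ c ∣ cc X p f

theorem Cd.of {S : Type u} [Group S] {X : Art.Sh} {p f : ℕ} (c : ℕ) (h : Nat.card (Cfsg.Out S) = c * f)
    (h1 : c ∣ cc X p f) : Cd S X p f := ⟨c, h, h1⟩

theorem cd {S : Type u} [Group S] [Finite S] [IsSimpleGroup S] (hna : ¬ ∀ a b : S, a * b = b * a)
    {g : Grp} {X : Art.Sh} {p f : ℕ} (hg : IsLie g X p f) (h : OrdDiv.Real g S) (hr : Art.Real X p f (Nat.card S)) :
    Cd S X p f := by
  have hna' : ¬ IsMulCommutative S := fun hc => hna fun a b => hc.is_comm.comm a b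
  obtain ⟨hp, hf, hok, -⟩ := hr
  have hpf := Fact.mk hp
  cases hg with
  | psl n p f =>
    obtain ⟨F, _, _, hF, ⟨e⟩⟩ := h
    have h1 := Cfsg.Agent.S0813.result p f hf hF n hok.1 hok.2
    rw [card_pgl hok.1, hF] at h1
    have h2 : Nat.card (MulAut S) = ((if n = 2 then 1 else 2) * Nat.gcd n (p ^ f - 1) * f) * Nat.card S := by
      rw [mulaut_congr e, h1, Nat.card_congr e.toEquiv]; ring
    exact Cd.of _ (card_out_of_aut hna' h2) (dvd_refl _)
  | psp n p f =>
    obtain ⟨F, _, _, hF, ⟨e⟩⟩ := h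
    have h1 := Cfsg.Agent.S0814.result p f hf hF n hok.1 hok.2
    have h2 : Nat.card (MulAut S) = ((if n = 2 ∧ p = 2 then 2 else 1) * Nat.gcd 2 (p ^ f - 1) * f) * Nat.card S := by
      rw [mulaut_congr e, h1, Nat.card_congr e.toEquiv]
    exact Cd.of _ (card_out_of_aut hna' h2) (dvd_refl _)
  | oodd n p f hn ho =>
    obtain ⟨F, _, _, hF, ⟨e⟩⟩ := h
    have hpo : Odd p := by
      rcases hp.eq_two_or_odd' with h | h
      · subst h
        exact absurd ho (by rw [Nat.not_odd_iff_even]; exact (even_two.pow_of_ne_zero (by omega)))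
      · exact h
    have h1 := Cfsg.Agent.S0816.result p f hf hF hpo n hn
    have h2 : Nat.card (MulAut S) = (2 * f) * Nat.card S := by
      rw [mulaut_congr e, h1, Nat.card_congr e.toEquiv]
    refine Cd.of _ (card_out_of_aut hna' h2) ?_
    have h3 : Nat.gcd 2 (p ^ f - 1) = 2 := by
      apply Nat.gcd_eq_left
      obtain ⟨k, hk⟩ := ho
      exact ⟨k, by omega⟩
    show 2 ∣ (if n = 2 ∧ p = 2 then 2 else 1) * Nat.gcd 2 (p ^ f - 1)
    rw [h3]
    exact Dvd.intro_left _ rfl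
  | psu n p f =>
    obtain ⟨F, _, _, hF, ⟨e⟩⟩ := h
    have h1 := Cfsg.Agent.S0815.result p f hf rfl hF n hok.1 (fun h => by have := hok.2 h.1; omega)
    have h2 : Nat.card (MulAut S) = (2 * Nat.gcd n (p ^ f + 1) * f) * Nat.card S := by
      rw [mulaut_congr e, h1, Nat.card_congr e.toEquiv]; ring
    exact Cd.of _ (card_out_of_aut hna' h2) (dvd_refl _)
  | oplus n p f =>
    obtain ⟨F, _, _, hF, ⟨e⟩⟩ := h
    have h1 := Cfsg.Agent.S0817.result p f hf hF n hok
    have h2 : Nat.card (MulAut S) = (((if n = 4 then 3 else 1) *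
        (if p = 2 then 2 else (if Even (n * (p ^ f - 1) / 2) then 8 else 4))) * f) * Nat.card S := by
      rw [mulaut_congr e, h1, Nat.card_congr e.toEquiv]
    refine Cd.of _ (card_out_of_aut hna' h2) ?_
    refine Nat.mul_dvd_mul (dvd_refl _) ?_
    split_ifs <;> norm_num
  | ominus n p f =>
    obtain ⟨F, _, _, a, b, hF, hab, ⟨e⟩⟩ := h
    have h1 := Cfsg.Agent.S0818.result p f hf hF n hok a b hab
    have h2 : Nat.card (MulAut S) = ((if p = 2 then 2 else (if Even (n * (p ^ f - 1) / 2) then 4 else 8)) * f) *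
        Nat.card S := by
      rw [mulaut_congr e, h1, Nat.card_congr e.toEquiv]
    refine Cd.of _ (card_out_of_aut hna' h2) ?_
    show _ ∣ (if p = 2 then 2 else 8)
    split_ifs <;> norm_num
  | g2 p f =>
    obtain ⟨F, _, _, hF, ⟨e⟩⟩ := h
    have := charP_of_card hp hf hF
    have h1 := Cfsg.Agent.S2121.result p f hF hok
    refine Cd.of (if p = 3 then 2 else 1) ?_ (dvd_refl _)
    rw [card_out_congr e, h1]; split_ifs <;> ring
  | f4 p f =>
    obtain ⟨F, _, _, hF, ⟨e⟩⟩ := h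
    have := charP_of_card hp hf hF
    have h1 := Cfsg.Agent.S2122.result p f hF
    exact Cd.of (Nat.gcd 2 p) (by rw [card_out_congr e, h1]) (dvd_refl _)
  | e6 p f =>
    obtain ⟨F, _, _, hF, ⟨e⟩⟩ := h
    have := charP_of_card hp hf hF
    have h1 := Cfsg.Agent.S2123.result p f hF
    exact Cd.of (2 * Nat.gcd 3 (p ^ f - 1)) (by rw [card_out_congr e, h1]) (dvd_refl _)
  | e7 p f =>
    obtain ⟨F, _, _, hF, ⟨e⟩⟩ := h
    have := charP_of_card hp hf hF
    have h1 := Cfsg.Agent.S2124.result p f hF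
    exact Cd.of (Nat.gcd 2 (p ^ f - 1)) (by rw [card_out_congr e, h1]) (dvd_refl _)
  | e8 p f =>
    obtain ⟨F, _, _, hF, ⟨e⟩⟩ := h
    have := charP_of_card hp hf hF
    have h1 := Cfsg.Agent.S2125.result p f hF
    exact Cd.of 1 (by rw [card_out_congr e, h1, one_mul]) (one_dvd _)
  | te6 p f =>
    obtain ⟨F, _, _, hF, ⟨e⟩⟩ := h
    have hF' : Fintype.card F = p ^ (2 * f) := by rw [hF, ← pow_mul, mul_comm]
    have := charP_of_card hp (by omega) hF'
    have h1 := Cfsg.Agent.S2130.result p f hF' hf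
    exact Cd.of (2 * Nat.gcd 3 (p ^ f + 1)) (by rw [card_out_congr e, h1]) (dvd_refl _)
  | td4 p f =>
    obtain ⟨F, _, _, hF, ⟨e⟩⟩ := h
    have hF' : Fintype.card F = p ^ (3 * f) := by rw [hF, ← pow_mul, mul_comm]
    have := charP_of_card hp (by omega) hF'
    have h1 := Cfsg.Agent.S2129.result p f hF' hf
    exact Cd.of 3 (by rw [card_out_congr e, h1]) (dvd_refl _)
  | sz p f =>
    obtain ⟨F, _, _, m, hm, hF, hq, ⟨e⟩⟩ := h
    obtain ⟨rfl, -, -⟩ := hok
    have hfm : f = 2 * m + 1 := Nat.pow_right_injective (le_refl 2) hq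
    have h1 := Cfsg.Agent.S2126.result hm (hF.trans hq)
    exact Cd.of 1 (by rw [card_out_congr e, h1, one_mul, hfm]) (one_dvd _)
  | ree p f =>
    obtain ⟨F, _, _, m, hm, hF, hq, ⟨e⟩⟩ := h
    obtain ⟨rfl, -, -⟩ := hok
    have hfm : f = 2 * m + 1 := Nat.pow_right_injective (by norm_num : 2 ≤ 3) hq
    have h1 := Cfsg.Agent.S2127.result hm (hF.trans hq)
    exact Cd.of 1 (by rw [card_out_congr e, h1, one_mul, hfm]) (one_dvd _)
  | tf4 p f =>
    obtain ⟨F, _, _, m, hm, hF, hq, ⟨e⟩⟩ := h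
    obtain ⟨rfl, -, -⟩ := hok
    have hfm : f = 2 * m + 1 := Nat.pow_right_injective (le_refl 2) hq
    have h1 := Cfsg.Agent.S2128.result hm (hF.trans hq)
    exact Cd.of 1 (by rw [card_out_congr e, h1, one_mul, hfm]) (one_dvd _)

/-- the `v`-part of `|S|` does not divide `|Out S|` -/
def Op (S : Type u) [Group S] : Prop :=
  ∀ v : ℕ, v.Prime → v ∣ Nat.card S → ¬ v ^ (Nat.card S).factorization v ∣ Nat.card (Cfsg.Out S)

theorem op_lie {S : Type u} [Group S] [Finite S] [IsSimpleGroup S] (hna : ¬ ∀ a b : S, a * b = b * a)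
    {g : Grp} {X : Art.Sh} {p f : ℕ} (hg : IsLie g X p f) (h : OrdDiv.Real g S) (hr : Art.Real X p f (Nat.card S)) :
    Op S := by
  intro v hv hd hO
  obtain ⟨c, h1, h2⟩ := cd hna hg h hr
  rw [h1] at hO
  exact OutNum.not_dvd hr hv hd (hO.trans (Nat.mul_dvd_mul_right h2 f))

theorem op_two {S : Type u} [Group S] [Finite S] (h4 : 4 ∣ Nat.card S) (ho : Nat.card (Cfsg.Out S) ∣ 2) : Op S := by
  intro v hv hd hO
  have h0 : Nat.card S ≠ 0 := Nat.card_pos.ne'
  have h1 := hO.trans ho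
  have h2 : 1 ≤ (Nat.card S).factorization v := (hv.dvd_iff_one_le_factorization h0).1 hd
  have h3 : v ∣ 2 := (dvd_pow_self v (by omega)).trans h1
  have h5 : v = 2 := (Nat.prime_dvd_prime_iff_eq hv Nat.prime_two).1 h3
  subst h5
  have h6 : 2 ≤ (Nat.card S).factorization 2 := by
    rw [← hv.pow_dvd_iff_le_factorization h0]
    exact h4
  have h7 : 2 ^ 2 ∣ 2 := (pow_dvd_pow 2 h6).trans h1
  exact absurd (Nat.le_of_dvd (by norm_num) h7) (by norm_num)

theorem op_alt {S : Type u} [Group S] [Finite S] [IsSimpleGroup S] (hna : ¬ IsMulCommutative S) {n : ℕ} (hn : 5 ≤ n)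
    (h6 : n ≠ 6) (e : S ≃* alternatingGroup (Fin n)) (hc : 2 * Nat.card S = n.factorial) : Op S := by
  have := Cfsg.Agent.H934.OutAll.simple_of e
  have hna' := Cfsg.Agent.H934.OutAll.not_comm_of hna e
  refine op_two ?_ ?_
  · have h1 : 2 * 4 ∣ 2 * Nat.card S := by
      rw [hc]
      exact Dvd.dvd.trans (by norm_num [Nat.factorial]) (Nat.factorial_dvd_factorial hn)
    exact Nat.dvd_of_mul_dvd_mul_left (by norm_num) h1
  · rw [card_out_congr e, Cfsg.Agent.H934.OutAll.card_out_alt hn h6 hna']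

theorem dvd_congr {S : Type u} [Group S] {X : Type*} [Group X] (h : Nat.card (Cfsg.Out X) ∣ 2)
    (e : Nonempty (S ≃* X)) : Nat.card (Cfsg.Out S) ∣ 2 := by
  obtain ⟨e⟩ := e
  rwa [card_out_congr e]

theorem card_out_tits {S : Type u} [Group S] (h : Cfsg.Lie.IsoTits S) : Nat.card (Cfsg.Out S) ∣ 2 := by
  obtain ⟨e⟩ := h
  obtain ⟨e'⟩ := Cfsg.Agent.TitsK.exists_equiv
  have hfin : Finite Cfsg.Agent.FourTwo.Base.LL := by infer_instance
  have h1 : Nat.card (Cfsg.Out ↥Cfsg.Agent.TitsK.TT) ∣ 2 := Cfsg.Agent.TitsK.tdata.index_inn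
  exact dvd_congr h1 ⟨e.trans e'⟩

theorem spor_four_all : (OrdDiv.spor.all fun x => x.2 % 4 == 0) = true := by decide +kernel

theorem spor_four : ∀ x ∈ OrdDiv.spor, 4 ∣ x.2 := by
  intro x hx
  have := List.all_eq_true.1 spor_four_all x hx
  exact Nat.dvd_of_mod_eq_zero (by simpa using this)

theorem spor_cases : ∀ x ∈ OrdDiv.spor, ∀ (S : Type u) [Group S], OrdDiv.Real x.1 S →
    Cfsg.Lie.IsoTits S ∨ Cfsg.IsSporadicGroup S := by
  intro x hx S _ h
  simp only [OrdDiv.spor, List.mem_cons, List.not_mem_nil, or_false] at hx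
  unfold Cfsg.IsSporadicGroup
  rcases hx with rfl | rfl | rfl | rfl | rfl | rfl | rfl | rfl | rfl | rfl | rfl | rfl | rfl | rfl | rfl | rfl |
    rfl | rfl | rfl | rfl | rfl | rfl | rfl | rfl | rfl | rfl | rfl
  · exact Or.inl h
  all_goals
    right
    have h' := h
    simp only [OrdDiv.Real] at h'
    tauto

/-- **the `v`-part of `|S|` does not divide `|Out S|`** -/
theorem op (S : Type u) [Group S] [Finite S] [IsSimpleGroup S] (hna : ¬ ∀ a b : S, a * b = b * a) (h : Nam S)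
    (h6 : ¬ Nonempty (S ≃* alternatingGroup (Fin 6))) : Op S := by
  have hna' : ¬ IsMulCommutative S := fun hc => hna fun a b => hc.is_comm.comm a b
  cases h with
  | alt n hn h hc =>
    obtain ⟨e⟩ := h
    refine op_alt hna' hn ?_ e hc
    rintro rfl
    exact h6 ⟨e⟩
  | lie g X p f hg h hc => exact op_lie hna hg h hc
  | spor x hx h hc =>
    refine op_two (by rw [hc]; exact spor_four x hx) ?_
    rcases spor_cases x hx S h with h1 | h1
    · exact card_out_tits h1
    · exact Cfsg.Agent.H149.Sp.card_out_dvd_two h1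

end Cfsg.Agent.H997.PF.OutPart
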