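import Cfsg.Agent.H997.PF.Loc

/-!
# Rows for `S3522` (helper997)

`Kill T d R` : tests for a subgroup `R` of a simple group `T` which imply `R ≠ A ∩ T` for every primitive factorization
`G = A * φ(A)` with socle `T` and `|G : T| = d` (`Fac T A φ`).  Here `d` is a PROPER divisor of `|Out T|`
(`Fac.index_dvd_out`, `Fac.index_ne`).  `Row T` : `T` is not the socle of a primitive factorization.
-/

set_option autoImplicit false

namespace Cfsg.Agent.H997.PF

open Subgroup Cfsg.Agent.H938.Sax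

universe u

/-- the data of the local test: `r`, `s` primes not dividing `d`, `s`-subgroups are cyclic, elements of order `r`
normalising a group of order `s` centralise it, `T` has an element of order `r * s` -/
structure LD (T : Type*) [Group T] (d r s : ℕ) : Prop where
  hr : r.Prime
  hs : s.Prime
  hrs : r ≠ s
  hrO : ¬ r ∣ d
  hsO : ¬ s ∣ d
  cyc : ∀ P : Subgroup T, IsPGroup s P → IsCyclic P
  ex : ∃ x : T, orderOf x = r * s
  comm : ∀ y z : T, orderOf y = r → orderOf z = s → y * z * y⁻¹ ∈ Subgroup.zpowers z → y * z = z * y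

/-- tests for a subgroup `R` of `T`, `d = |G : T|` -/
inductive Kill (T : Type*) [Group T] (d : ℕ) (R : Subgroup T) : Prop
  /-- a prime is missing -/
  | pgap (h : PGap T R) : Kill T d R
  /-- the `v`-part of the order equation `|T| ∣ |R|² d` -/
  | num {v k l m : ℕ} (hv : v.Prime) (hT : v ^ k ∣ Nat.card T) (hR : ¬ v ^ (l + 1) ∣ Nat.card R)
      (hO : ¬ v ^ (m + 1) ∣ d) (hlt : 2 * l + m < k) : Kill T d R
  /-- the local test -/
  | loc {r s : ℕ} (h : LD T d r s) (hR : ∀ x ∈ R, orderOf x ≠ r * s) : Kill T d R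

theorem Kill.mono {T : Type*} [Group T] [Finite T] {d : ℕ} {R M : Subgroup T} (h : Kill T d M) (hle : R ≤ M) :
    Kill T d R := by
  cases h with
  | pgap h => exact .pgap (pgap_mono hle h)
  | num hv hT hR hO hlt => exact .num hv hT (fun h => hR (h.trans (Subgroup.card_dvd_of_le hle))) hO hlt
  | loc h hR => exact .loc h fun x hx => hR x (hle hx)

/-- `|Out|` is an isomorphism invariant -/
theorem card_out_congr {T S : Type*} [Group T] [Group S] (e : T ≃* S) :
    Nat.card (Cfsg.Out T) = Nat.card (Cfsg.Out S) := by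
  have h1 : (Cfsg.Inn T).map (MulAut.congr e).toMonoidHom = Cfsg.Inn S := by
    ext f
    constructor
    · rintro ⟨_, ⟨t, rfl⟩, rfl⟩
      refine ⟨e t, ?_⟩
      ext s
      show e t * s * (e t)⁻¹ = e (t * e.symm s * t⁻¹)
      rw [map_mul, map_mul, map_inv, e.apply_symm_apply]
    · rintro ⟨s, rfl⟩
      refine ⟨MulAut.conj (e.symm s), ⟨e.symm s, rfl⟩, ?_⟩
      ext x
      show e (e.symm s * e.symm x * (e.symm s)⁻¹) = s * x * s⁻¹
      rw [map_mul, map_mul, map_inv, e.apply_symm_apply, e.apply_symm_apply]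
  show (Cfsg.Inn T).index = (Cfsg.Inn S).index
  rw [← h1]
  exact (Subgroup.index_map_equiv _ (MulAut.congr e)).symm

theorem LD.congr {T S : Type*} [Group T] [Group S] {d r s : ℕ} (e : T ≃* S) (h : LD T d r s) : LD S d r s where
  hr := h.hr
  hs := h.hs
  hrs := h.hrs
  hrO := h.hrO
  hsO := h.hsO
  cyc P hP := by
    have h1 := h.cyc (P.map e.symm.toMonoidHom) (hP.map _)
    exact isCyclic_of_injective (P.equivMapOfInjective e.symm.toMonoidHom e.symm.injective).toMonoidHom
      (P.equivMapOfInjective e.symm.toMonoidHom e.symm.injective).injective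
  ex := by
    obtain ⟨x, hx⟩ := h.ex
    exact ⟨e x, by rw [orderOf_mulEquiv, hx]⟩
  comm y z hy hz hyz := by
    have h1 := h.comm (e.symm y) (e.symm z) (by rw [orderOf_mulEquiv, hy]) (by rw [orderOf_mulEquiv, hz]) (by
      obtain ⟨j, hj⟩ := Subgroup.mem_zpowers_iff.1 hyz
      rw [Subgroup.mem_zpowers_iff]
      refine ⟨j, ?_⟩
      rw [← map_zpow, hj, map_mul, map_mul, map_inv])
    have h2 := congrArg e h1
    simpa using h2

theorem Kill.congr {T S : Type*} [Group T] [Group S] {d : ℕ} (e : T ≃* S) {R : Subgroup S}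
    (h : Kill T d (R.comap e.toMonoidHom)) : Kill S d R := by
  cases h with
  | pgap h => exact .pgap (h.congr e)
  | @num v k l m hv hT hR hO hlt =>
    refine .num (v := v) (k := k) (l := l) (m := m) hv ?_ ?_ hO hlt
    · rwa [← Nat.card_congr e.toEquiv]
    · rwa [← card_comap e R]
  | loc h hR =>
    refine .loc (h.congr e) fun x hx ho => hR (e.symm x) ?_ (by rw [orderOf_mulEquiv, ho])
    show e (e.symm x) ∈ R
    rwa [e.apply_symm_apply]

theorem Kill.map {T : Type*} [Group T] {d : ℕ} {R : Subgroup T} (α : MulAut T)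
    (h : Kill T d (R.map α.toMonoidHom)) : Kill T d R := by
  have h1 : R.map α.toMonoidHom = R.comap (α⁻¹ : MulAut T).toMonoidHom := by
    ext x
    constructor
    · rintro ⟨y, hy, rfl⟩
      show α⁻¹ (α y) ∈ R
      rwa [MulAut.inv_apply_self]
    · intro hx
      exact ⟨_, hx, MulAut.apply_inv_self _ _ _⟩
  rw [h1] at h
  exact h.congr (α⁻¹ : MulAut T)

/-- proper subgroups of `T` are killed or contained in a unique member of a `T`-class `𝓜` of proper subgroups
(`𝓜 = ∅` : all proper subgroups are killed) -/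
structure IsFam (T : Type*) [Group T] (d : ℕ) (𝓜 : Set (Subgroup T)) : Prop where
  ne_top : ∀ M ∈ 𝓜, M ≠ ⊤
  exi : ∀ K : Subgroup T, K ≠ ⊤ → Kill T d K ∨ ∃ M ∈ 𝓜, K ≤ M
  uni : ∀ K : Subgroup T, Kill T d K ∨ ∀ M ∈ 𝓜, ∀ M' ∈ 𝓜, K ≤ M → K ≤ M' → M = M'
  tr : ∀ M ∈ 𝓜, ∀ M' ∈ 𝓜, ∃ t : T, M' = M.map (MulAut.conj t).toMonoidHom

/-- `T` is not the socle of a primitive factorization `G = A * φ(A)`. -/
def Row (T : Type*) [Group T] : Prop :=
  ∀ d : ℕ, d ∣ Nat.card (Cfsg.Out T) → d ≠ Nat.card (Cfsg.Out T) → ∃ 𝓜 : Set (Subgroup T), IsFam T d 𝓜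

theorem Row.out {T : Type*} [Group T] (h : Nat.card (Cfsg.Out T) = 1) : Row T := fun d h1 h2 => by
  rw [h, Nat.dvd_one] at h1
  exact absurd (h1.trans h.symm) h2

theorem IsFam.empty {T : Type*} [Group T] {d : ℕ} (h : ∀ K : Subgroup T, K ≠ ⊤ → Kill T d K) : IsFam T d ∅ where
  ne_top _ h := absurd h (Set.notMem_empty _)
  exi K hK := Or.inl (h K hK)
  uni _ := Or.inr fun _ h => absurd h (Set.notMem_empty _)
  tr _ h := absurd h (Set.notMem_empty _)

theorem Row.kill {T : Type*} [Group T]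
    (h : ∀ d : ℕ, d ∣ Nat.card (Cfsg.Out T) → d ≠ Nat.card (Cfsg.Out T) → ∀ K : Subgroup T, K ≠ ⊤ → Kill T d K) :
    Row T := fun d h1 h2 => ⟨∅, .empty (h d h1 h2)⟩

theorem Row.pgap {T : Type*} [Group T] (h : ∀ K : Subgroup T, K ≠ ⊤ → PGap T K) : Row T :=
  .kill fun _ _ _ K hK => .pgap (h K hK)

/-- `|Out T| = 2` : `d = 1` -/
theorem Row.kill_two {T : Type*} [Group T] (h2 : Nat.card (Cfsg.Out T) = 2)
    (h : ∀ K : Subgroup T, K ≠ ⊤ → Kill T 1 K) : Row T := by
  refine .kill fun d hd hne => ?_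
  rw [h2] at hd hne
  have h3 : d = 1 := ((Nat.dvd_prime Nat.prime_two).1 hd).resolve_right hne
  subst h3
  exact h

/-- the order of `R` is given, `d = 1` : `|T| ∤ |R|²`; use it in the form `v ^ k ∣ |T|`, `¬ v ^ (l + 1) ∣ |R|`,
`2 l < k` -/
theorem Kill.num_one {T : Type*} [Group T] {R : Subgroup T} {v k l : ℕ} (hv : v.Prime) (hT : v ^ k ∣ Nat.card T)
    (hR : ¬ v ^ (l + 1) ∣ Nat.card R) (hlt : 2 * l < k) : Kill T 1 R :=
  .num (m := 0) hv hT hR (by rw [zero_add, pow_one, Nat.dvd_one]; exact hv.one_lt.ne') (by omega)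

/-- families determined by the subgroups of prime order `r`, when the `r`-subgroups are cyclic -/
theorem IsFam.of_prime {T : Type*} [Group T] [Finite T] {d r : ℕ} (hr : r.Prime) (hrT : r ∣ Nat.card T)
    (hcyc : ∀ P : Subgroup T, IsPGroup r P → IsCyclic P) (𝓜 : Set (Subgroup T)) (ne_top : ∀ M ∈ 𝓜, M ≠ ⊤)
    (hconj : ∀ M ∈ 𝓜, ∀ t : T, M.map (MulAut.conj t).toMonoidHom ∈ 𝓜)
    (hd : ∀ M ∈ 𝓜, r ∣ Nat.card M)
    (huni : ∀ x : T, orderOf x = r → ∀ M ∈ 𝓜, ∀ M' ∈ 𝓜, x ∈ M → x ∈ M' → M = M')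
    (exi : ∀ K : Subgroup T, K ≠ ⊤ → Kill T d K ∨ ∃ M ∈ 𝓜, K ≤ M) : IsFam T d 𝓜 where
  ne_top := ne_top
  exi := exi
  uni K := by
    by_cases hK : r ∣ Nat.card K
    · right
      have := Fact.mk hr
      obtain ⟨x, hx⟩ := exists_prime_orderOf_dvd_card' r hK
      intro M hM M' hM' h1 h2
      exact huni x (by rw [← hx, ← Subgroup.orderOf_coe]) M hM M' hM' (h1 x.2) (h2 x.2)
    · exact Or.inl (.pgap ⟨r, hr, hrT, hK⟩)
  tr M hM M' hM' := by
    have := Fact.mk hr
    obtain ⟨x, hx⟩ := exists_prime_orderOf_dvd_card' r (hd M hM)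
    obtain ⟨y, hy⟩ := exists_prime_orderOf_dvd_card' r (hd M' hM')
    have hx' : orderOf (x : T) = r := by rw [← hx, ← Subgroup.orderOf_coe]
    have hy' : orderOf (y : T) = r := by rw [← hy, ← Subgroup.orderOf_coe]
    obtain ⟨t, -, ht⟩ := conj_of_cyclic (K := (⊤ : Subgroup T)) (X := Subgroup.zpowers (x : T))
      (Y := Subgroup.zpowers (y : T)) (s := r) (fun P _ hP => hcyc P hP) le_top le_top
      (by rw [Nat.card_zpowers, hx']) (by rw [Nat.card_zpowers, hy'])
    refine ⟨t, huni y hy' M' hM' _ (hconj M hM t) y.2 ?_⟩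
    have h1 : (y : T) ∈ (Subgroup.zpowers (x : T)).map (MulAut.conj t).toMonoidHom := by
      rw [← ht]; exact Subgroup.mem_zpowers _
    exact Subgroup.map_mono ((Subgroup.zpowers_le).2 x.2) h1

theorem comap_ne_top {T S : Type*} [Group T] [Group S] (e : T ≃* S) {K : Subgroup S} (h : K ≠ ⊤) :
    K.comap e.toMonoidHom ≠ ⊤ := by
  intro h1
  apply h
  rw [eq_top_iff]
  intro x _
  have h2 : e.symm x ∈ K.comap e.toMonoidHom := by rw [h1]; trivial
  have h3 : e (e.symm x) ∈ K := h2
  rwa [e.apply_symm_apply] at h3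

theorem IsFam.congr {T S : Type*} [Group T] [Group S] {d : ℕ} (e : T ≃* S) {𝓜 : Set (Subgroup T)}
    (h : IsFam T d 𝓜) : IsFam S d {M | M.comap e.toMonoidHom ∈ 𝓜} := by
  have key : ∀ K : Subgroup S, (K.comap e.toMonoidHom).comap e.symm.toMonoidHom = K := by
    intro K
    ext x
    show e (e.symm x) ∈ K ↔ _
    rw [e.apply_symm_apply]
  have key' : ∀ K : Subgroup T, (K.comap e.symm.toMonoidHom).comap e.toMonoidHom = K := by
    intro K
    ext x
    show e.symm (e x) ∈ K ↔ _
    rw [e.symm_apply_apply]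
  refine ⟨?_, ?_, ?_, ?_⟩
  · rintro M hM rfl
    exact h.ne_top _ hM rfl
  · intro K hK
    rcases h.exi _ (comap_ne_top e hK) with h | ⟨M, hM, h⟩
    · exact Or.inl (h.congr e)
    · refine Or.inr ⟨M.comap e.symm.toMonoidHom, ?_, ?_⟩
      · show (M.comap e.symm.toMonoidHom).comap e.toMonoidHom ∈ 𝓜
        rwa [key']
      · rw [← key K]
        exact Subgroup.comap_mono h
  · intro K
    rcases h.uni (K.comap e.toMonoidHom) with h | h
    · exact Or.inl (h.congr e)
    · refine Or.inr fun M hM M' hM' hKM hKM' => ?_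
      have := h _ hM _ hM' (Subgroup.comap_mono hKM) (Subgroup.comap_mono hKM')
      rw [← key M, this, key M']
  · intro M hM M' hM'
    obtain ⟨t, ht⟩ := h.tr _ hM _ hM'
    refine ⟨e t, ?_⟩
    rw [← key M', ht]
    ext x
    constructor
    · rintro ⟨y, hy, hyx⟩
      have h5 : t * y * t⁻¹ = e.symm x := hyx
      refine ⟨e y, hy, ?_⟩
      show e t * e y * (e t)⁻¹ = x
      rw [← map_mul, ← map_inv, ← map_mul, h5, e.apply_symm_apply]
    · rintro ⟨y, hy, rfl⟩
      refine ⟨e.symm y, ?_, ?_⟩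
      · show e (e.symm y) ∈ M
        rwa [e.apply_symm_apply]
      · show t * e.symm y * t⁻¹ = e.symm (e t * y * (e t)⁻¹)
        rw [map_mul, map_mul, map_inv, e.symm_apply_apply]

theorem Row.congr {T S : Type*} [Group T] [Group S] (e : T ≃* S) (h : Row T) : Row S := by
  intro d hd hne
  rw [← card_out_congr e] at hd hne
  obtain ⟨𝓜, h1⟩ := h d hd hne
  exact ⟨_, h1.congr e⟩

namespace Fac

variable {G : Type u} [Group G] {T A : Subgroup G} {φ : G ≃* G}

/-- `G` is not the full automorphism group of `T` -/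
theorem index_ne (h : Fac T A φ) : T.index ≠ Nat.card (Cfsg.Out T) := by
  intro hidx
  have := h.fin
  have := h.normal
  have := h.simple
  have hfinA : Finite (MulAut T) := Finite.of_injective (fun f : MulAut T => (f : T → T)) DFunLike.coe_injective
  have hinj : Function.Injective (MulAut.conjNormal : G →* MulAut T) := by
    rw [injective_iff_map_eq_one]
    intro g hg
    have h1 : g ∈ Subgroup.centralizer (T : Set G) := by
      rw [Subgroup.mem_centralizer_iff]
      intro x hx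
      have h2 : (MulAut.conjNormal g : MulAut T) ⟨x, hx⟩ = ⟨x, hx⟩ := by rw [hg]; rfl
      have h3 := congrArg Subtype.val h2
      rw [MulAut.conjNormal_apply] at h3
      change g * x * g⁻¹ = x at h3
      calc x * g = g * x * g⁻¹ * g := by rw [h3]
        _ = g * x := by group
    rw [h.cent] at h1
    exact h1
  have hinn : Nat.card (Cfsg.Inn T) = Nat.card T := by
    have h1 : Function.Injective (MulAut.conj : T →* MulAut T) := by
      intro x y hxy
      have h2 : (MulAut.conjNormal (x : G) : MulAut T) = MulAut.conjNormal (y : G) := by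
        ext t
        rw [MulAut.conjNormal_apply, MulAut.conjNormal_apply]
        exact congrArg Subtype.val (congrArg (fun f : MulAut T => f t) hxy)
      exact Subtype.ext (hinj h2)
    exact (Nat.card_congr (MonoidHom.ofInjective h1).toEquiv).symm
  have hcard : Nat.card (MulAut T) = Nat.card G := by
    have h1 := (Cfsg.Inn T).card_mul_index
    rw [hinn] at h1
    have h2 := T.card_mul_index
    rw [hidx] at h2
    exact h1.symm.trans h2
  have hsurj : Function.Surjective (MulAut.conjNormal : G →* MulAut T) :=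
    ((Nat.bijective_iff_injective_and_card _).2 ⟨hinj, hcard.symm⟩).2
  obtain ⟨g, hg⟩ := hsurj h.restr
  have hφt : ∀ t ∈ T, φ t = g * t * g⁻¹ := by
    intro t ht
    have h1 := congrArg (fun f : MulAut T => ((f ⟨t, ht⟩ : T) : G)) hg
    simp only [MulAut.conjNormal_apply] at h1
    exact h1.symm
  refine h.not_conj g ?_
  congr 1
  ext x
  show φ x = g * x * g⁻¹
  have h1 : (g * x * g⁻¹)⁻¹ * φ x ∈ Subgroup.centralizer (T : Set G) := by
    rw [Subgroup.mem_centralizer_iff]
    intro t ht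
    -- `t = g s g⁻¹`
    have hs : g⁻¹ * t * g ∈ T := by simpa using h.normal.conj_mem t ht g⁻¹
    have hxs : x * (g⁻¹ * t * g) * x⁻¹ ∈ T := h.normal.conj_mem _ hs x
    have h2 := hφt _ hxs
    rw [map_mul, map_mul, map_inv, hφt _ hs] at h2
    have h3 : g * (g⁻¹ * t * g) * g⁻¹ = t := by group
    rw [h3] at h2
    have h4 : φ x * t = g * (x * (g⁻¹ * t * g) * x⁻¹) * g⁻¹ * φ x := by
      rw [← h2]; group
    calc t * ((g * x * g⁻¹)⁻¹ * φ x)
        = (g * x * g⁻¹)⁻¹ * (g * (x * (g⁻¹ * t * g) * x⁻¹) * g⁻¹ * φ x) := by group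
      _ = (g * x * g⁻¹)⁻¹ * (φ x * t) := by rw [h4]
      _ = (g * x * g⁻¹)⁻¹ * φ x * t := by group
  rw [h.cent, Subgroup.mem_bot] at h1
  calc φ x = (g * x * g⁻¹) * ((g * x * g⁻¹)⁻¹ * φ x) := by group
    _ = g * x * g⁻¹ := by rw [h1, mul_one]

/-- the tests are correct -/
theorem not_kill (h : Fac T A φ)
    (hO : ∀ v : ℕ, v.Prime → v ∣ Nat.card T → ¬ v ^ (Nat.card T).factorization v ∣ Nat.card (Cfsg.Out T)) :
    ¬ Kill T T.index (A.subgroupOf T) := by
  intro hk
  have := h.fin
  cases hk with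
  | pgap hk => exact h.full hO hk
  | @num v k l m hv hT hR hO hlt =>
    have h1 := hT.trans h.card_dvd
    have hr0 : Nat.card (A.subgroupOf T) ≠ 0 := Nat.card_pos.ne'
    have ho0 : T.index ≠ 0 := Subgroup.index_ne_zero_of_finite
    rw [hv.pow_dvd_iff_le_factorization (mul_ne_zero (mul_ne_zero hr0 hr0) ho0),
      Nat.factorization_mul (mul_ne_zero hr0 hr0) ho0, Nat.factorization_mul hr0 hr0] at h1
    rw [hv.pow_dvd_iff_le_factorization hr0] at hR
    rw [hv.pow_dvd_iff_le_factorization ho0] at hO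
    simp only [Finsupp.add_apply] at h1
    omega
  | @loc r s hl hR =>
    obtain ⟨x, hx, ho⟩ := h.loc hl.hr hl.hs hl.hrs hl.hrO hl.hsO
      (by
        by_contra hcon
        refine h.full hO ⟨s, hl.hs, ?_, hcon⟩
        obtain ⟨x, hx⟩ := hl.ex
        have h2 : s ∣ orderOf x := by rw [hx]; exact Dvd.intro_left _ rfl
        exact h2.trans (orderOf_dvd_natCard x)) hl.cyc hl.ex hl.comm
    exact hR x hx ho

/-- **a row excludes primitive factorizations** -/
theorem not_row (h : Fac T A φ)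
    (hO : ∀ v : ℕ, v.Prime → v ∣ Nat.card T → ¬ v ^ (Nat.card T).factorization v ∣ Nat.card (Cfsg.Out T))
    (hR : Row T) : False := by
  have hfin := h.fin
  have hnor := h.normal
  have hsim := h.simple
  have hk := h.not_kill hO
  obtain ⟨𝓜, ne_top, exi, uni, tr⟩ := hR _ h.index_dvd_out h.index_ne
  obtain ⟨M, hM, hRM⟩ := (exi _ h.ne_top).resolve_left hk
  have hMk : ¬ Kill T T.index M := fun h1 => hk (h1.mono hRM)
  -- images of members
  have map_mem : ∀ {M : Subgroup T}, M ∈ 𝓜 → ¬ Kill T T.index M → ∀ α : MulAut T, M.map α.toMonoidHom ∈ 𝓜 := by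
    intro M hM hMf α
    have hf : ¬ Kill T T.index (M.map α.toMonoidHom) := fun h => hMf (h.map α)
    have hne : M.map α.toMonoidHom ≠ ⊤ := by
      intro h
      apply ne_top M hM
      apply Subgroup.eq_top_of_card_eq
      rw [← card_map α M, h, Subgroup.card_top]
    obtain ⟨M', hM', h1⟩ := (exi _ hne).resolve_left hf
    have hf' : ¬ Kill T T.index M' := fun h => hf (h.mono h1)
    have hf'' : ¬ Kill T T.index (M'.map (α⁻¹ : MulAut T).toMonoidHom) := fun h => hf' (h.map _)
    have hne' : M'.map (α⁻¹ : MulAut T).toMonoidHom ≠ ⊤ := by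
      intro h
      apply ne_top M' hM'
      apply Subgroup.eq_top_of_card_eq
      rw [← card_map α⁻¹ M', h, Subgroup.card_top]
    obtain ⟨M'', hM'', h2⟩ := (exi _ hne').resolve_left hf''
    have h3 : M ≤ M'.map (α⁻¹ : MulAut T).toMonoidHom := by
      intro x hx
      refine ⟨α x, h1 ⟨x, hx, rfl⟩, ?_⟩
      show α⁻¹ (α x) = x
      simp
    have h4 : M = M'' := (uni M).resolve_left hMf M hM M'' hM'' le_rfl (h3.trans h2)
    have h5 : M' ≤ M.map α.toMonoidHom := by
      intro x hx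
      refine ⟨α⁻¹ x, ?_, ?_⟩
      · rw [h4]; exact h2 ⟨x, hx, rfl⟩
      · show α (α⁻¹ x) = x
        simp
    rw [← le_antisymm h5 h1]
    exact hM'
  -- `A` is the normalizer of `M`
  have hA : A = Subgroup.normalizer ((M.map T.subtype : Subgroup G) : Set G) := by
    have hle : A ≤ Subgroup.normalizer ((M.map T.subtype : Subgroup G) : Set G) := by
      intro a ha
      rw [mem_normalizer_iff_map, ← map_conjNormal]
      congr 1
      refine ((uni _).resolve_left hk M hM _ (map_mem hM hMk _) hRM ?_).symm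
      intro x hx
      refine ⟨(MulAut.conjNormal a : MulAut T)⁻¹ x, hRM ?_, ?_⟩
      · rw [← map_inv]
        show ((MulAut.conjNormal a⁻¹ x : T) : G) ∈ A
        rw [MulAut.conjNormal_apply]
        exact A.mul_mem (A.mul_mem (A.inv_mem ha) hx) (A.inv_mem (A.inv_mem ha))
      · show (MulAut.conjNormal a : MulAut T) ((MulAut.conjNormal a : MulAut T)⁻¹ x) = x
        simp
    rcases h.coatom.le_iff.1 hle with h1 | h1
    · exfalso
      have h2 : (M.map T.subtype).Normal := Subgroup.normalizer_eq_top_iff.1 h1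
      have h3 : M.Normal := by
        have h4 : (M.map T.subtype).subgroupOf T = M := by
          ext x
          simp [Subgroup.mem_subgroupOf]
        rw [← h4]
        exact h2.subgroupOf T
      rcases h3.eq_bot_or_eq_top with h4 | h4
      · exact ne_bot_of_not_pgap (fun h5 => hMk (.pgap h5)) h4
      · exact ne_top M hM h4
    · exact h1.symm
  obtain ⟨t, ht⟩ := tr M hM _ (map_mem hM hMk h.restr)
  refine h.not_conj (t : G) ?_
  rw [hA, map_normalizer, ← h.map_restr, ht]
  have h1 : (M.map (MulAut.conj t).toMonoidHom).map T.subtype =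
      (M.map T.subtype).map (MulAut.conj (t : G)).toMonoidHom := by
    ext x
    constructor
    · rintro ⟨_, ⟨y, hy, rfl⟩, rfl⟩
      exact ⟨y, ⟨y, hy, rfl⟩, rfl⟩
    · rintro ⟨_, ⟨y, hy, rfl⟩, rfl⟩
      exact ⟨_, ⟨y, hy, rfl⟩, rfl⟩
  rw [h1, ← map_normalizer]

end Fac

end Cfsg.Agent.H997.PF
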