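import Cfsg.Agent.H997.PF.RowsCl
import Cfsg.Agent.H938.Sax.OrthRows

/-!
# Rows `PSp_{2m}(q)`, `Ω_{2m+1}(q)`, `PΩ⁺_{2m}(q)`, `m = 2k ≥ 6`, and `m` odd; `PΩ⁻` (helper997, for S3522)
-/

set_option autoImplicit false
set_option linter.style.haveILetI false

namespace Cfsg.Agent.H997.PF

open Cfsg Cfsg.Geo Cfsg.Agent.OrdDiv Cfsg.Agent.H436 Cfsg.Agent.H264.FKS Cfsg.Agent.H264.GN Cfsg.Agent.H915.GN
  Cfsg.Agent.H938.Sax Cfsg.Agent.H884.El Cfsg.Agent.H278.El.Asm Cfsg.Agent.LieClassical.OmegaReindex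
  Cfsg.Agent.LieClassical Cfsg.Agent.H955
open Cfsg.Agent.H901.SaxSp (InOMinus)
open scoped MatrixGroups

/-! ### numbers -/

theorem coprime_of_pp {q k r : ℕ} (hk : 3 ≤ k) (hr : PP q (2 * (k - 1)) r) : r.Coprime (2 * (k + 1)) := by
  rw [hr.prime.coprime_iff_not_dvd]
  intro h
  have h1 := hr.lt (by omega)
  rcases hr.prime.dvd_mul.1 h with h2 | h2
  · have := Nat.le_of_dvd (by norm_num) h2
    omega
  · have := Nat.le_of_dvd (by omega) h2
    omega

/-- the numbers `r`, `s` -/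
theorem exists_rs {p f k : ℕ} (hp : p.Prime) (hf : 1 ≤ f) (hk : 3 ≤ k) (h24 : ¬ (p ^ f = 2 ∧ k = 4)) :
    ∃ r s, NumP p f k (r * s) ∧ PP (p ^ f) (2 * (k - 1)) r ∧ PP (p ^ f) (2 * (k + 1)) s ∧
      ∀ d, d ∣ 8 * f → ¬ r ∣ d ∧ ¬ s ∣ d := by
  obtain ⟨N, hN⟩ := exists_numP (k := k) hp hf hk
  rcases hN.1 with ⟨h1, h2, -⟩ | ⟨r, s, rfl, hr, hs⟩
  · exact absurd ⟨h1, h2⟩ h24
  · refine ⟨r, s, hN, hr, hs, fun d hd => ⟨fun h => ?_, fun h => ?_⟩⟩
    · have h1 : r ∣ Nat.gcd (r * s) (8 * f) := Nat.dvd_gcd (Dvd.intro _ rfl) (h.trans hd)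
      rw [hN.2] at h1
      exact hr.prime.one_lt.ne' (Nat.dvd_one.1 h1)
    · have h1 : s ∣ Nat.gcd (r * s) (8 * f) := Nat.dvd_gcd (Dvd.intro_left _ rfl) (h.trans hd)
      rw [hN.2] at h1
      exact hs.prime.one_lt.ne' (Nat.dvd_one.1 h1)

/-! ### local data -/

section ld

variable {F : Type} [Field F] [Fintype F] {k d r s : ℕ}

theorem ld_psp (hk : 3 ≤ k) (hr : PP (Nat.card F) (2 * (k - 1)) r) (hs : PP (Nat.card F) (2 * (k + 1)) s)
    (hrd : ¬ r ∣ d) (hsd : ¬ s ∣ d) (hex : ∃ x : PSp (2 * k) F, orderOf x = r * s) : LD (PSp (2 * k) F) d r s := by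
  have hr2 : r ≠ 2 := by have := hr.lt (by omega); omega
  refine ld_of_cover (F := F) (e := 2 * (k + 1)) hs (by omega) (ι := Fin (2 * k) ⊕ Fin (2 * k))
    (by rw [Fintype.card_sum, Fintype.card_fin]; omega)
    (MonoidHom.toHomUnits (Matrix.symplecticGroup (Fin (2 * k)) F).subtype)
    (fun a b hab => Subtype.ext (congrArg Units.val hab))
    (QuotientGroup.mk' (Subgroup.center (Matrix.symplecticGroup (Fin (2 * k)) F)))
    (QuotientGroup.mk'_surjective _) (fun z hz => ?_) hr.prime hr2 (coprime_of_pp hk hr)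
    (hr.ne_of_ne hs (by omega)) hrd hsd hex
  have h3 : z ∈ Subgroup.center (Matrix.symplecticGroup (Fin (2 * k)) F) := (QuotientGroup.eq_one_iff z).1 hz
  refine ⟨h3, Subtype.ext ?_⟩
  rcases Cfsg.Agent.ClassicalGeometry.SympInvolutions.center_eq h3 with h | h
  · rw [SubmonoidClass.coe_pow, h, one_pow]; rfl
  · rw [SubmonoidClass.coe_pow, h, neg_one_sq]; rfl

theorem ld_omega {ι : Type} [Fintype ι] [DecidableEq ι] {Q : QuadraticForm F (ι → F)} (hD : H390.Lift.Data Q)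
    (hk : 3 ≤ k) (hι : Fintype.card ι ≤ 4 * k + 1)
    (hr : PP (Nat.card F) (2 * (k - 1)) r) (hs : PP (Nat.card F) (2 * (k + 1)) s)
    (hrd : ¬ r ∣ d) (hsd : ¬ s ∣ d) (hex : ∃ x : POmega F (⇑Q), orderOf x = r * s) : LD (POmega F (⇑Q)) d r s := by
  have hr2 : r ≠ 2 := by have := hr.lt (by omega); omega
  refine ld_of_cover (F := F) (e := 2 * (k + 1)) hs (by omega) (ι := ι) (by omega)
    ((isometryGroup F (⇑Q)).subtype.comp (Omega F (⇑Q)).subtype)
    ((Subgroup.subtype_injective _).comp (Subgroup.subtype_injective _))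
    (QuotientGroup.mk' (Subgroup.center (Omega F (⇑Q))))
    (QuotientGroup.mk'_surjective _) (fun z hz => ?_) hr.prime hr2 (coprime_of_pp hk hr)
    (hr.ne_of_ne hs (by omega)) hrd hsd hex
  have h3 : z ∈ Subgroup.center (Omega F (⇑Q)) := (QuotientGroup.eq_one_iff z).1 hz
  exact ⟨h3, H390.Lift.center_sq hD z h3⟩

end ld

/-! ### rows -/

section rows

variable {F : Type} [Field F] [Fintype F]

theorem no_of_blk {T : Type} [Group T] [Finite T] {R : Subgroup T} {f N : ℕ} (S : Subgroup R) [S.Normal]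
    (hC : Subgroup.centralizer (S : Set R) = ⊥) (hN : N.Coprime (8 * f)) (h : Blk S f N) :
    ∀ x ∈ R, orderOf x ≠ N := by
  obtain ⟨c, h1, h2, h3⟩ := h
  exact no_of_socle S hC h2 (hN.coprime_dvd_right h1) h3

/-- **`PSp_{4k}(q)`, `k ≥ 3`, `q > 2`.** -/
theorem row_psp_even (tab : OrderTable.{0}) (hK : Kn) {k : ℕ} (hk : 3 ≤ k) (hq : Fintype.card F ≠ 2)
    [IsSimpleGroup (PSp (2 * k) F)] (hna : ¬ IsMulCommutative (PSp (2 * k) F)) : Row (PSp (2 * k) F) := by
  obtain ⟨p, f, hp, hf, hF, hpF⟩ := exists_pf F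
  have := Fact.mk hp
  have hfin : Finite (PSp (2 * k) F) := Quotient.finite _
  have hc : Nat.card F = p ^ f := by rw [Nat.card_eq_fintype_card, hF]
  obtain ⟨r, s, hN, hr, hs, hd8⟩ := exists_rs (k := k) hp hf hk (fun h => hq (by rw [hF, h.1]))
  have hout : Nat.card (Cfsg.Out (PSp (2 * k) F)) ∣ 8 * f := by
    have h1 := Cfsg.Agent.S0814.result (F := F) p f hf hF (2 * k) (by omega) (fun h => by omega)
    rw [if_neg (fun h => by omega), one_mul] at h1
    rw [Cfsg.Agent.H934.OutB.card_out_of_aut hna h1]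
    exact Nat.mul_dvd_mul_right ((Nat.gcd_dvd_left _ _).trans (by decide)) f
  have hT : IsNamed (.psp (2 * k) (p ^ f)) (PSp (2 * k) F) := by
    rw [← hF]; exact named_psp (F := F) (n := 2 * k) (by omega) (by omega)
  refine .kill fun d hd hne K hKt => ?_
  obtain ⟨hrd, hsd⟩ := hd8 d (hd.trans hout)
  have hl : LD (PSp (2 * k) F) d r s := ld_psp hk (by rw [hc]; exact hr) (by rw [hc]; exact hs) hrd hsd
    (exists_psp hp hf hk hN hT)
  rcases psp_main tab hK (m := 2 * k) (by omega) hq hKt with h | ⟨-, -, Q, hpol, hP, hH⟩ | ⟨-, h⟩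
  · exact .pgap h
  · exact .loc hl (ominus_sp_gap (k := k) hk rfl (by rw [hc]; exact hN.1) hpol hP hH)
  · obtain ⟨S, hSn, hSs, hna', hC, hS, -⟩ := h
    rw [hF] at hS
    exact .loc hl (no_of_blk S hC hN.2 (blk_ominus hp hf hk hN hS))

/-- **`PSp_{2m}(q)`, `m ≥ 3` odd, `q > 2`.** -/
theorem row_psp_odd (tab : OrderTable.{0}) (hK : Kn) {m : ℕ} (hm : 3 ≤ m) (ho : m % 2 = 1) (hq : Fintype.card F ≠ 2) :
    Row (PSp m F) := by
  refine .pgap fun K hKt => ?_
  rcases psp_main tab hK hm hq hKt with h | ⟨h, -⟩ | ⟨h, -⟩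
  · exact h
  · obtain ⟨k, hk⟩ := h
    omega
  · omega

/-- **`PSp_{2m}(2)`.** -/
theorem row_psp_two {m : ℕ} (hm : 3 ≤ m) (hq : Fintype.card F = 2) [IsSimpleGroup (PSp m F)]
    (hna : ¬ IsMulCommutative (PSp m F)) : Row (PSp m F) := by
  have := Fact.mk Nat.prime_two
  have hfin : Finite (PSp m F) := Quotient.finite _
  have h1 := Cfsg.Agent.S0814.result (F := F) 2 1 le_rfl (by rw [hq]; rfl) m (by omega) (fun h => by omega)
  rw [if_neg (fun h => by omega)] at h1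
  refine .out ?_
  rw [Cfsg.Agent.H934.OutB.card_out_of_aut hna h1]
  decide

/-- **`PΩ⁻_{2m}(q)`.** -/
theorem row_ominus (tab : OrderTable.{0}) (hK : Kn) {m : ℕ} (hm : 4 ≤ m) {a b : F}
    (hab : ∀ z₁ z₂ : F, z₁ ^ 2 + a * z₁ * z₂ + b * z₂ ^ 2 = 0 → z₁ = 0 ∧ z₂ = 0) :
    Row (POmega F (quadFormMinus (m - 1) F a b)) :=
  .pgap fun _ h => ominus_main tab hK hm hab h

/-- the geometric part of the odd row -/
theorem oodd_geo (hodd : Odd (Fintype.card F)) {m : ℕ} (hm : 3 ≤ m) (K : Subgroup (POmega F (quadFormOdd m F))) :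
    PGap (POmega F (quadFormOdd m F)) K ∨ InOrthogonalResidualClass (pre (quadFormOdd m F) K) ∨
      (Even m ∧ ∃ v, quadFormOdd m F v ≠ 0 ∧ pre (quadFormOdd m F) K ≤ subspaceStabilizer (Submodule.span F {v})) :=
  geo_odd_miss hm hodd K

/-- **`Ω_{2m+1}(q)`, `m ≥ 3` odd.** -/
theorem row_oodd_odd (tab : OrderTable.{0}) (hK : Kn) (hodd : Odd (Fintype.card F)) {m : ℕ} (hm : 3 ≤ m)
    (ho : m % 2 = 1) : Row (POmega F (quadFormOdd m F)) := by
  refine .pgap fun K hKt => ?_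
  rcases oodd_geo hodd hm K with h | h | ⟨h, -⟩
  · exact h
  · rcases oodd_res tab hK hm hodd hKt h with h | ⟨h, -⟩
    · exact h
    · omega
  · obtain ⟨k, hk⟩ := h
    omega

/-- **`Ω_{4k+1}(q)`, `k ≥ 3`.** -/
theorem row_oodd_even (tab : OrderTable.{0}) (hK : Kn) (hodd : Odd (Fintype.card F)) {k : ℕ} (hk : 3 ≤ k)
    [IsSimpleGroup (POmega F (quadFormOdd (2 * k) F))] (hna : ¬ IsMulCommutative (POmega F (quadFormOdd (2 * k) F))) :
    Row (POmega F (quadFormOdd (2 * k) F)) := by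
  obtain ⟨p, f, hp, hf, hF, hpF⟩ := exists_pf F
  have := Fact.mk hp
  have h2 : (2 : F) ≠ 0 := H390.two_ne_zero_of_odd hodd
  have hfin : Finite (POmega F (quadFormOdd (2 * k) F)) := Quotient.finite _
  have hc : Nat.card F = p ^ f := by rw [Nat.card_eq_fintype_card, hF]
  have hoddp : Odd p := by
    rw [hF] at hodd
    exact (Nat.odd_pow_iff (by omega)).1 hodd
  obtain ⟨r, s, hN, hr, hs, hd8⟩ := exists_rs (k := k) hp hf hk (fun h => by
    rw [hF, h.1] at hodd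
    exact absurd hodd (by decide))
  have hout : Nat.card (Cfsg.Out (POmega F (quadFormOdd (2 * k) F))) ∣ 8 * f := by
    have h1 := Cfsg.Agent.S0816.result (F := F) p f hf hF hoddp (2 * k) (by omega)
    rw [Cfsg.Agent.H934.OutB.card_out_of_aut hna h1]
    exact Nat.mul_dvd_mul_right (by decide) f
  have hT : IsNamed (.oodd (2 * k) (p ^ f)) (POmega F (quadFormOdd (2 * k) F)) := by
    rw [← hF]; exact named_oodd (F := F) (by omega) hodd
  have hex := exists_oodd hk hN hT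
  -- the geometric part
  have hgeo : ∀ K : Subgroup (POmega F (⇑(quadOdd (2 * k) F))), PGap (POmega F (⇑(quadOdd (2 * k) F))) K ∨
      InOrthogonalResidualClass (pre (⇑(quadOdd (2 * k) F)) K) ∨ ∀ x ∈ K, orderOf x ≠ r * s := by
    intro K
    rcases odd_miss h2 (by omega) (card_odd (2 * k)) (nondeg_iff.2 (quadOdd_nondegenerate h2)) (data_odd (by omega) h2) K
      with h | h | ⟨-, v, hv, hMv, hP⟩
    · exact Or.inl h
    · exact Or.inr (Or.inl h)
    · refine Or.inr (Or.inr fun x hx => ?_)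
      exact odd_point_gap h2 (nondeg_iff.2 (quadOdd_nondegenerate h2)) (data_odd (by omega) h2) hk
        (by rw [hc]; exact hN.1) (by rw [card_odd]; omega) hv hMv hP x hx
  have hld : ∀ d, ¬ r ∣ d → ¬ s ∣ d → (∃ x : POmega F (⇑(quadOdd (2 * k) F)), orderOf x = r * s) →
      LD (POmega F (⇑(quadOdd (2 * k) F))) d r s := fun d hrd hsd hex =>
    ld_omega (data_odd (by omega) h2) hk (by rw [card_odd]; omega) (by rw [hc]; exact hr) (by rw [hc]; exact hs)
      hrd hsd hex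
  rw [coe_quadOdd] at hgeo hld
  refine .kill fun d hd hne K hKt => ?_
  obtain ⟨hrd, hsd⟩ := hd8 d (hd.trans hout)
  have hl := hld d hrd hsd hex
  rcases hgeo K with h | h | h
  · exact .pgap h
  · rcases oodd_res tab hK (by omega) hodd hKt h with h | ⟨-, S, hSn, hSs, hna', hC, hS, -⟩
    · exact .pgap h
    · rw [hF] at hS
      exact .loc hl (no_of_blk S hC hN.2 (blk_ominus hp hf hk hN hS))
  · exact .loc hl h

/-- **`PΩ⁺_{2m}(q)`, `m ≥ 5` odd.** -/
theorem row_oplus_odd (tab : OrderTable.{0}) (hK : Kn) {m : ℕ} (hm : 5 ≤ m) (ho : m % 2 = 1) :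
    Row (POmega F (quadFormPlus m F)) := by
  refine .pgap fun K hKt => ?_
  rcases geo_plus_miss (F := F) (by omega : 4 ≤ m) (fun h => by omega) K with h | h | ⟨h, -⟩
  · exact h
  · rcases oplus_res tab hK hm hKt h with h | ⟨h, -⟩
    · exact h
    · omega
  · obtain ⟨k, hk⟩ := h
    omega

/-- **`PΩ⁺_{4k}(q)`, `k ≥ 3`, not `PΩ⁺_16(2)`.** -/
theorem row_oplus_even (tab : OrderTable.{0}) (hK : Kn) {k : ℕ} (hk : 3 ≤ k)
    (h24 : ¬ (Fintype.card F = 2 ∧ k = 4)) [IsSimpleGroup (POmega F (quadFormPlus (2 * k) F))]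
    (hna : ¬ IsMulCommutative (POmega F (quadFormPlus (2 * k) F))) :
    Row (POmega F (quadFormPlus (2 * k) F)) := by
  obtain ⟨p, f, hp, hf, hF, hpF⟩ := exists_pf F
  have := Fact.mk hp
  have hfin : Finite (POmega F (quadFormPlus (2 * k) F)) := Quotient.finite _
  have hc : Nat.card F = p ^ f := by rw [Nat.card_eq_fintype_card, hF]
  obtain ⟨r, s, hN, hr, hs, hd8⟩ := exists_rs (k := k) hp hf hk (fun h => h24 ⟨by rw [hF, h.1], h.2⟩)
  have hout : Nat.card (Cfsg.Out (POmega F (quadFormPlus (2 * k) F))) ∣ 8 * f := by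
    have h1 := Cfsg.Agent.S0817.result (F := F) p f hf hF (2 * k) (by omega)
    rw [if_neg (by omega : ¬ 2 * k = 4), one_mul] at h1
    rw [Cfsg.Agent.H934.OutB.card_out_of_aut hna h1]
    refine Nat.mul_dvd_mul_right ?_ f
    split_ifs <;> decide
  have hT : IsNamed (.oplus (2 * k) (p ^ f)) (POmega F (quadFormPlus (2 * k) F)) := by
    rw [← hF]; exact named_oplus (F := F) (by omega)
  have hex := exists_oplus hk hN hT
  have hgeo : ∀ K : Subgroup (POmega F (⇑(quadPlus (2 * k) F))), PGap (POmega F (⇑(quadPlus (2 * k) F))) K ∨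
      InOrthogonalResidualClass (pre (⇑(quadPlus (2 * k) F)) K) ∨ ∀ x ∈ K, orderOf x ≠ r * s := by
    intro K
    rcases plus_miss (m := 2 * k) (by omega) (card_plus (2 * k)) (nondeg_iff.2 quadPlus_nondegenerate)
      (isPlus_quadPlus (2 * k)) (fun h => by omega) (data_plus (by omega)) K with h | h | ⟨-, v, hv, hMv⟩
    · exact Or.inl h
    · exact Or.inr (Or.inl h)
    · refine Or.inr (Or.inr fun x hx => ?_)
      exact plus_point_gap (nondeg_iff.2 quadPlus_nondegenerate) (data_plus (by omega)) hk (by rw [hc]; exact hN.1)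
        (by rw [card_plus]; omega) hv hMv x hx
  have hld : ∀ d, ¬ r ∣ d → ¬ s ∣ d → (∃ x : POmega F (⇑(quadPlus (2 * k) F)), orderOf x = r * s) →
      LD (POmega F (⇑(quadPlus (2 * k) F))) d r s := fun d hrd hsd hex =>
    ld_omega (data_plus (by omega)) hk (by rw [card_plus]; omega) (by rw [hc]; exact hr) (by rw [hc]; exact hs)
      hrd hsd hex
  rw [coe_quadPlus] at hgeo hld
  refine .kill fun d hd hne K hKt => ?_
  obtain ⟨hrd, hsd⟩ := hd8 d (hd.trans hout)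
  have hl := hld d hrd hsd hex
  rcases hgeo K with h | h | h
  · exact .pgap h
  · rcases oplus_res tab hK (by omega) hKt h with h | ⟨-, g, hg, S, hSn, hSs, hna', hC, hS, -⟩
    · exact .pgap h
    · rw [hF] at hg
      rcases hg with rfl | rfl
      · exact .loc hl (no_of_blk S hC hN.2 (blk_psp hp hf hk hN hS))
      · exact .loc hl (no_of_blk S hC hN.2 (blk_oodd hp hf hk hN hS))
  · exact .loc hl h

end rows

end Cfsg.Agent.H997.PF
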