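import Cfsg.Agent.H997.PF.Ld
import Cfsg.Agent.H278.ElCrossRows
import Cfsg.Agent.H938.Sax.FourA
import Cfsg.Agent.H938.Sax.SpRow
import Cfsg.Agent.H503.El.PG
import Cfsg.Agent.H503.El.O73
import Cfsg.Agent.H934.OutB

/-!
# Full subgroups of the symplectic and orthogonal groups; rows for `S3522` (helper997)

`psp_main`, `oodd_main`, `oplus_main`, `ominus_main`: every proper subgroup misses a prime or is special.
-/

set_option autoImplicit false
set_option linter.style.haveILetI false

namespace Cfsg.Agent.H997.PF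

open Cfsg Cfsg.Geo Cfsg.Agent.OrdDiv Cfsg.Agent.H436 Cfsg.Agent.H264.FKS Cfsg.Agent.H264.GN Cfsg.Agent.H915.GN
  Cfsg.Agent.H938.Sax Cfsg.Agent.H884.El Cfsg.Agent.H278.El.Asm Cfsg.Agent.LieClassical.OmegaReindex
  Cfsg.Agent.LieClassical
open Cfsg.Agent.H278.El.SporNum (IsCl exc)
open Cfsg.Agent.H278.El.AltNum (dimOf surv)
open Cfsg.Agent.H884.Cx (excP)
open Cfsg.Agent.H901.SaxSp (InOMinus InExt psp_cases)
open scoped MatrixGroups

/-- the subgroup `K` has a normal simple subgroup with name `g`, which is the simple group of a residual core -/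
def SocN {T : Type} [Group T] (K : Subgroup T) (ι : Type) [Fintype ι] [DecidableEq ι] (F : Type) [Field F]
    (H : Subgroup (GL ι F)) (g : Grp) : Prop :=
  ∃ S : Subgroup K, S.Normal ∧ IsSimpleGroup S ∧ ¬ IsMulCommutative S ∧
    Subgroup.centralizer (S : Set K) = ⊥ ∧ IsNamed g S ∧
    ∃ P : Subgroup (GL ι F), IsResidualCore H P ∧ Nonempty (S ≃* P ⧸ (scalars ι F).subgroupOf P)

/-- the same, and the core fixes no quadratic form -/
def SocNQ {T : Type} [Group T] (K : Subgroup T) (ι : Type) [Fintype ι] [DecidableEq ι] (F : Type) [Field F]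
    (H : Subgroup (GL ι F)) (g : Grp) : Prop :=
  ∃ S : Subgroup K, S.Normal ∧ IsSimpleGroup S ∧ ¬ IsMulCommutative S ∧
    Subgroup.centralizer (S : Set K) = ⊥ ∧ IsNamed g S ∧
    ∃ P : Subgroup (GL ι F), IsResidualCore H P ∧
      (¬ ∃ Q : (ι → F) → F, IsNondegenerateQuadraticForm Q ∧ FixesQuadForm (matrixSet P) Q) ∧
      Nonempty (S ≃* P ⧸ (scalars ι F).subgroupOf P)

theorem exists_pf (F : Type) [Field F] [Fintype F] :
    ∃ p f : ℕ, p.Prime ∧ 1 ≤ f ∧ Fintype.card F = p ^ f ∧ p ∣ Fintype.card F := by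
  obtain ⟨p, f, hp, hf, h⟩ := (isPrimePow_nat_iff _).1 (Fintype.isPrimePow_card_of_field (α := F))
  exact ⟨p, f, hp, hf, h.symm, h ▸ dvd_pow_self p (by omega)⟩

section

variable {F : Type} [Field F] [Fintype F] {m : ℕ}

/-- **`PSp_{2m}(q)`, `m ≥ 3`, `q ≠ 2`** -/
theorem psp_main (tab : OrderTable.{0}) (hK : Kn) (hm : 3 ≤ m) (hq : Fintype.card F ≠ 2) {K : Subgroup (PSp m F)}
    (hne : K ≠ ⊤) : PGap (PSp m F) K ∨ InOMinus m F (H262.El.pre K) ∨
      (m % 2 = 0 ∧ SocNQ K (Fin m ⊕ Fin m) F (H262.El.pre K) (.ominus m (Fintype.card F))) := by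
  obtain ⟨p, f, hp, hf, hF, hpF⟩ := exists_pf F
  have hT : IsNamed (.psp m (Fintype.card F)) (PSp m F) := named_psp (F := F) (n := m) (by omega) (by omega)
  have hfin : Finite (PSp m F) := Quotient.finite _
  have hf1 : ¬ (p = 2 ∧ f = 1) := by
    rintro ⟨rfl, rfl⟩
    exact hq (by rw [hF, pow_one])
  rcases psp_cases (by omega) (fun h => by omega) (fun h => hq h.2) (fun h => by omega) hne with h | h | h | h
  · exact Or.inl h
  · obtain ⟨P, hP, hnQ, -⟩ := h
    obtain ⟨S, hSn, hSs, hna, hC, ⟨e⟩⟩ := exists_socle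
      (Cfsg.Agent.H876.spToGL m F) H262.El.spToGL_injective _ (QuotientGroup.mk'_surjective _) hker_sp hP
    obtain ⟨g, hg⟩ := named_of_simple tab hK hna
    refine res_kill (p := p) hT trivial ?_ ?_ S hC hg e ?_ (fun h => Or.inl h) ?_ ?_
    · simp only [surv, List.mem_cons, Grp.psp.injEq, reduceCtorEq, or_false, false_or, List.not_mem_nil, not_or]
      exact ⟨by omega, by omega, by omega, by omega⟩
    · intro g' hg'
      simp only [exc, List.mem_cons, Prod.mk.injEq, reduceCtorEq, and_false, or_false, List.not_mem_nil] at hg'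
    · rw [Fintype.card_sum, Fintype.card_fin]
      exact (two_mul m).symm
    · intro hch
      by_cases hfull : Full (PSp m F) K
      · have hT' : IsNamed (.psp m (p ^ f)) (PSp m F) := by rw [← hF]; exact hT
        obtain ⟨h1, h2⟩ := full_psp hT' hp hf hm (fun h => hf1 ⟨h.1, by
          obtain ⟨-, h⟩ := h
          have := Nat.mul_le_mul_left f (show 6 ≤ 2 * m by omega)
          omega⟩) (fun h => hf1 ⟨h.1, by
          obtain ⟨-, h⟩ := h
          have := Nat.mul_le_mul_left f (show 4 ≤ 2 * (m - 1) by omega)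
          omega⟩) hne hfull S hna hC hg hch
        subst h2
        refine Or.inr (Or.inr ⟨h1, S, hSn, hSs, hna, hC, by rw [hF]; exact hg, P, hP, hnQ, ⟨e⟩⟩)
      · exact Or.inl (pgap_of_not_full hfull)
    · intro s hs hsp hch
      rcases cross_gen hp hT trivial (hasChar_card hp hpF) (by
        rw [Fintype.card_sum, Fintype.card_fin]; exact (two_mul m).symm) hpF S hSn hSs hna hC hP ⟨e⟩
        hs hsp hg hch with h | h
      · exact Or.inl h
      · simp only [excP, List.mem_cons, Prod.mk.injEq, Grp.psp.injEq, reduceCtorEq, and_false, or_false,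
          false_or, List.not_mem_nil] at h
        omega
  · exact Or.inr (Or.inl h)
  · exact absurd h.1 (by omega)

/-- **`Ω_{2m+1}(q)`, residual class** -/
theorem oodd_res (tab : OrderTable.{0}) (hK : Kn) (hm : 3 ≤ m) (hodd : Odd (Fintype.card F))
    {R : Subgroup (POmega F (quadFormOdd m F))} (hR : R ≠ ⊤)
    (h : InOrthogonalResidualClass (pre (quadFormOdd m F) R)) :
    PGap (POmega F (quadFormOdd m F)) R ∨ (m % 2 = 0 ∧
      SocN R (Unit ⊕ (Fin m ⊕ Fin m)) F (pre (quadFormOdd m F) R) (.ominus m (Fintype.card F))) := by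
  by_cases h33 : m = 3 ∧ Fintype.card F = 3
  · obtain ⟨rfl, h3⟩ := h33
    exact Or.inl (H503.El.pgap_o73 tab hK F h3 R hR)
  obtain ⟨p, f, hp, hf, hF, hpF⟩ := exists_pf F
  have hT : IsNamed (.oodd m (Fintype.card F)) (POmega F (quadFormOdd m F)) := named_oodd (F := F) hm hodd
  have hfin : Finite (POmega F (quadFormOdd m F)) := Quotient.finite _
  have hι : Fintype.card (Unit ⊕ (Fin m ⊕ Fin m)) = 2 * m + 1 := by
    rw [Fintype.card_sum, Fintype.card_sum, Fintype.card_fin, Fintype.card_unit]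
    omega
  obtain ⟨P, hP, -⟩ := h
  obtain ⟨S, hSn, hSs, hna, hC, ⟨e⟩⟩ := exists_res_odd hm hodd (M := R) hP
  obtain ⟨g, hg⟩ := named_of_simple tab hK hna
  refine res_kill (p := p) hT trivial ?_ ?_ S hC hg e hι (fun h => Or.inl h) ?_ ?_
  · simp only [surv, List.mem_cons, reduceCtorEq, or_false, List.not_mem_nil, not_false_eq_true]
  · intro g' hg'
    simp only [exc, List.mem_cons, Prod.mk.injEq, reduceCtorEq, and_false, or_false, List.not_mem_nil] at hg'
  · intro hch
    by_cases hfull : Full (POmega F (quadFormOdd m F)) R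
    · have hT' : IsNamed (.oodd m (p ^ f)) (POmega F (quadFormOdd m F)) := by rw [← hF]; exact hT
      obtain ⟨h1, h2⟩ := full_oodd hT' hp hf hm hR hfull S hna hC hg hch
      subst h2
      exact Or.inr ⟨h1, S, hSn, hSs, hna, hC, by rw [hF]; exact hg, P, hP, ⟨e⟩⟩
    · exact Or.inl (pgap_of_not_full hfull)
  · intro s hs hsp hch
    rcases cross_gen hp hT trivial (hasChar_card hp hpF) hι hpF S hSn hSs hna hC hP ⟨e⟩
      hs hsp hg hch with h | h
    · exact Or.inl h
    · simp only [excP, List.mem_cons, Prod.mk.injEq, Grp.oodd.injEq, reduceCtorEq, and_false, or_false,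
        false_or, List.not_mem_nil] at h
      exact absurd h.2 h33

/-- **`PΩ⁺_{2m}(q)`, `m ≥ 5`, residual class** -/
theorem oplus_res (tab : OrderTable.{0}) (hK : Kn) (hm : 5 ≤ m)
    {R : Subgroup (POmega F (quadFormPlus m F))} (hR : R ≠ ⊤)
    (h : InOrthogonalResidualClass (pre (quadFormPlus m F) R)) :
    PGap (POmega F (quadFormPlus m F)) R ∨ (m % 2 = 0 ∧ ∃ g, (g = .psp (m - 1) (Fintype.card F) ∨
      g = .oodd (m - 1) (Fintype.card F)) ∧ SocN R (Fin m ⊕ Fin m) F (pre (quadFormPlus m F) R) g) := by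
  by_cases h52 : m = 5 ∧ Fintype.card F = 2
  · obtain ⟨rfl, h2⟩ := h52
    exact Or.inl (H503.El.pgap_o10p tab hK F h2 R hR)
  obtain ⟨p, f, hp, hf, hF, hpF⟩ := exists_pf F
  have hT : IsNamed (.oplus m (Fintype.card F)) (POmega F (quadFormPlus m F)) := named_oplus (F := F) (by omega)
  have hfin : Finite (POmega F (quadFormPlus m F)) := Quotient.finite _
  have hι : Fintype.card (Fin m ⊕ Fin m) = 2 * m := by
    rw [Fintype.card_sum, Fintype.card_fin]; exact (two_mul m).symm
  obtain ⟨P, hP, -⟩ := h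
  obtain ⟨S, hSn, hSs, hna, hC, ⟨e⟩⟩ := exists_res_plus (by omega) (M := R) hP
  obtain ⟨g, hg⟩ := named_of_simple tab hK hna
  refine res_kill (p := p) hT trivial ?_ ?_ S hC hg e hι (fun h => Or.inl h) ?_ ?_
  · simp only [surv, List.mem_cons, Grp.oplus.injEq, reduceCtorEq, or_false, false_or, List.not_mem_nil]
    omega
  · intro g' hg'
    simp only [exc, List.mem_cons, Prod.mk.injEq, Grp.oplus.injEq, reduceCtorEq, and_false, or_false, false_or,
      List.not_mem_nil] at hg'
    omega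
  · intro hch
    by_cases hfull : Full (POmega F (quadFormPlus m F)) R
    · have hT' : IsNamed (.oplus m (p ^ f)) (POmega F (quadFormPlus m F)) := by rw [← hF]; exact hT
      have h8 : 8 * f ≤ 2 * (m - 1) * f := Nat.mul_le_mul_right f (by omega)
      have h6 : 6 * f ≤ 2 * (m - 2) * f := Nat.mul_le_mul_right f (by omega)
      obtain ⟨h1, h2⟩ := full_oplus' hT' hp hf (by omega) (fun h => by
          obtain ⟨-, h⟩ := h
          rw [mul_comm] at h
          omega) (fun h => by
          obtain ⟨rfl, h⟩ := h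
          have hf1 : f = 1 := by
            rw [mul_comm] at h
            omega
          subst hf1
          exact h52 ⟨by omega, by rw [hF, pow_one]⟩) hR hfull S hna hC hg hch
      refine Or.inr ⟨h1, g, by rw [hF]; exact h2, S, hSn, hSs, hna, hC, hg, P, hP, ⟨e⟩⟩
    · exact Or.inl (pgap_of_not_full hfull)
  · intro s hs hsp hch
    rcases cross_gen hp hT trivial (hasChar_card hp hpF) hι hpF S hSn hSs hna hC hP ⟨e⟩
      hs hsp hg hch with h | h
    · exact Or.inl h
    · simp only [excP, List.mem_cons, Prod.mk.injEq, Grp.oplus.injEq, reduceCtorEq, and_false, or_false,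
        false_or, List.not_mem_nil] at h
      omega

/-- **`PΩ⁻_{2m}(q)`, `m ≥ 4`** -/
theorem ominus_main (tab : OrderTable.{0}) (hK : Kn) (hm : 4 ≤ m) {a b : F}
    (hab : ∀ z₁ z₂ : F, z₁ ^ 2 + a * z₁ * z₂ + b * z₂ ^ 2 = 0 → z₁ = 0 ∧ z₂ = 0)
    {R : Subgroup (POmega F (quadFormMinus (m - 1) F a b))} (hR : R ≠ ⊤) :
    PGap (POmega F (quadFormMinus (m - 1) F a b)) R := by
  by_cases h42 : m = 4 ∧ Fintype.card F = 2
  · obtain ⟨rfl, h2⟩ := h42
    exact H503.El.pgap_o8m tab hK F h2 a b hab R hR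
  obtain ⟨p, f, hp, hf, hF, hpF⟩ := exists_pf F
  refine Cfsg.Agent.H278.El.Asm.ominus_row tab hK hp hpF hm hab (fun h => h42 ⟨h.2, h.1⟩) ?_ hR
  intro R hR S hSn hSs hna hC H P hP e s g hsp hne hS hch
  have hfin : Finite (POmega F (quadFormMinus (m - 1) F a b)) := Quotient.finite _
  have hT : IsNamed (.ominus m (Fintype.card F)) (POmega F (quadFormMinus (m - 1) F a b)) :=
    named_ominus (F := F) hm hab
  have hι : Fintype.card ((Fin (m - 1) ⊕ Fin (m - 1)) ⊕ Fin 2) = 2 * m := by
    rw [Fintype.card_sum, Fintype.card_sum, Fintype.card_fin, Fintype.card_fin]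
    omega
  rcases cross_gen hp hT trivial (hasChar_card hp hpF) hι hpF S hSn hSs hna hC hP e
    hsp hne hS hch with h | h
  · exact h
  · simp only [excP, List.mem_cons, Prod.mk.injEq, reduceCtorEq, and_false, or_false, List.not_mem_nil] at h

end

end Cfsg.Agent.H997.PF
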