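import Cfsg.Agent.H997.PF.RowsEight
import Cfsg.Agent.H997.PF.OutPart
import Cfsg.Agent.H997.PF.Prim
import Cfsg.Agent.H783.FacAlt
import Cfsg.Agent.H783.FacL62
import Cfsg.Agent.H352.PF.Psl2
import Cfsg.Agent.H5.PF.RowPsl
import Cfsg.Agent.H159.PF.SpFour
import Cfsg.Agent.H855.PF.Psu
import Cfsg.Agent.S0254
import Cfsg.Agent.S0256
import Cfsg.Agent.S0822
import Cfsg.Prelude.Def_Classification2

/-!
# Primitive factorizations: assembly of the rows (helper997, for S3522)
-/

set_option autoImplicit false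

namespace Cfsg.Agent.H997.PF

open Cfsg Cfsg.Agent.OrdDiv Cfsg.Agent.H278.El.Asm Cfsg.Agent.H997.PF.OutPart

universe u

/-- The exceptional and sporadic rows. -/
structure Inp : Prop where
  g2 : ∀ {T : Type u} [Group T] [Finite T], Lie.IsoChevG2 T → Row T
  f4 : ∀ {T : Type u} [Group T] [Finite T], Lie.IsoF4 T → Row T
  e6 : ∀ {T : Type u} [Group T] [Finite T], Lie.IsoChevE6 T → Row T
  e7 : ∀ {T : Type u} [Group T] [Finite T], Lie.IsoE7 T → Row T
  e8 : ∀ {T : Type u} [Group T] [Finite T], Lie.IsoE8 T → Row T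
  te6 : ∀ {T : Type u} [Group T] [Finite T], Lie.Iso2E6 T → Row T
  td4 : ∀ {T : Type u} [Group T] [Finite T], Lie.Iso3D4 T → Row T
  sz : ∀ {T : Type u} [Group T] [Finite T], Lie.IsoSuzuki T → Row T
  ree : ∀ {T : Type u} [Group T] [Finite T], Lie.IsoRee T → Row T
  tf4 : ∀ {T : Type u} [Group T] [Finite T], Lie.Iso2F4 T → Row T
  tits : ∀ {T : Type u} [Group T] [Finite T], Lie.IsoTits T → Row T
  spor : ∀ {T : Type u} [Group T] [Finite T], IsSporadicGroup T → ¬ Spor.IsoM12 T → Row T

/-- transport of simplicity -/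
theorem simple_congr {T S : Type*} [Group T] [Group S] (e : T ≃* S) [IsSimpleGroup T] (hna : ¬ IsMulCommutative T) :
    IsSimpleGroup S ∧ ¬ IsMulCommutative S := by
  have h1 : Nontrivial S := e.symm.toEquiv.nontrivial
  refine ⟨IsSimpleGroup.isSimpleGroup_of_surjective e.toMonoidHom e.surjective, fun h => hna ⟨⟨fun a b => ?_⟩⟩⟩
  apply e.injective
  rw [map_mul, map_mul]
  exact h.is_comm.comm _ _

/-- The conclusion of the theorem. -/
def Concl (T : Type u) [Group T] : Prop :=
  (∃ (F : Type) (_ : Field F) (_ : Fintype F), Nonempty (T ≃* Cfsg.POmega F (Cfsg.quadFormPlus 4 F))) ∨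
    (∃ (F : Type) (_ : Field F) (_ : Fintype F), ringChar F = 2 ∧ 4 ≤ Fintype.card F ∧ Nonempty (T ≃* Cfsg.PSp 2 F)) ∨
    Nonempty (T ≃* alternatingGroup (Fin 6)) ∨ Cfsg.Spor.IsoM12 T

theorem isPrimePow_of_sq {F : Type} [Field F] [Fintype F] {q : ℕ} (h : Fintype.card F = q ^ 2) : IsPrimePow q := by
  have h1 : IsPrimePow (q ^ 2) := h ▸ Fintype.isPrimePow_card_of_field
  exact (isPrimePow_pow_iff (by norm_num)).1 h1

theorem ringChar_two {F : Type} [Field F] [Fintype F] (h : ¬ Odd (Fintype.card F)) : ringChar F = 2 := by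
  obtain ⟨p, hp⟩ := CharP.exists F
  obtain ⟨n, hpp, hn⟩ := FiniteField.card F p
  have hp2 : p = 2 := by
    by_contra hne
    exact h (by rw [hn]; exact (hpp.odd_of_ne_two hne).pow)
  subst hp2
  exact ringChar.eq F 2

section

variable {G : Type u} [Group G] {T A : Subgroup G} {φ : G ≃* G}

/-- **The assembly.** -/
theorem concl_of_fac (tab : OrderTable.{0}) (hK : Kn) (tabu : OrderTable.{u}) (hT : IsKnownSimple' T) (I : Inp.{u})
    (h : Fac T A φ) : Concl T := by
  have hfin := h.fin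
  have hs := h.simple
  have hna := h.nc
  have hna' : ¬ ∀ a b : T, a * b = b * a := fun hc => hna ⟨⟨hc⟩⟩
  have hN := Cfsg.Agent.H902.Names.exists_nam tabu hT hna'
  by_cases h6 : Nonempty (T ≃* alternatingGroup (Fin 6))
  · exact Or.inr (Or.inr (Or.inl h6))
  have hO : Op T := op T hna' hN h6
  have hfull := h.full hO
  have row : ∀ {S : Type} [Group S], (T ≃* S) → Row S → False := fun e hR => h.not_row hO (hR.congr e.symm)
  have alt : ∀ n : ℕ, 5 ≤ n → n ≠ 6 → (T ≃* alternatingGroup (Fin n)) → False := fun n hn hne e =>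
    Cfsg.Agent.H783.FacAlt.fac_alt h hn hne e hfull
  rcases hT with hT | hT | hT | hT | hT | hT | hT | hT | hT | hT
  · exfalso
    have : Fact (Nat.card T).Prime := ⟨hT⟩
    have : IsCyclic T := isCyclic_of_prime_card (p := Nat.card T) rfl
    exact hna (IsCyclic.isMulCommutative (α := T))
  · obtain ⟨n, hn, ⟨e⟩⟩ := hT
    exfalso
    refine alt n hn ?_ e
    rintro rfl
    exact h6 ⟨e⟩
  · -- `PSL`
    obtain ⟨F, _, _, n, hn, hn2, ⟨e⟩⟩ := hT
    exfalso
    by_cases h2 : n = 2
    · subst h2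
      refine row e (Cfsg.Agent.H352.PF.row_psl2 (hn2 rfl) fun h9 => ?_)
      obtain ⟨e'⟩ := Cfsg.Agent.S0254.result h9
      exact h6 ⟨e.trans e'⟩
    by_cases h42 : n = 4 ∧ Fintype.card F = 2
    · obtain ⟨rfl, hF⟩ := h42
      obtain ⟨e'⟩ := Cfsg.Agent.S0256.result hF
      exact alt 8 (by norm_num) (by norm_num) (e.trans e')
    by_cases h62 : n = 6 ∧ Fintype.card F = 2
    · obtain ⟨rfl, hF⟩ := h62
      exact Cfsg.Agent.H783.FacL62.fac_l62 tab hK h hF e hfull
    exact row e (Cfsg.Agent.H5.PF.row_psl tab hK (by omega) h42 h62)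
  · -- `PSp`
    obtain ⟨F, _, _, m, hm, hm2, ⟨e⟩⟩ := hT
    obtain ⟨hs', hna''⟩ := simple_congr e hna
    by_cases h2 : m = 2
    · subst h2
      by_cases hodd : Odd (Fintype.card F)
      · exact (row e (Cfsg.Agent.H159.PF.row_psp4 hodd)).elim
      · refine Or.inr (Or.inl ⟨F, inferInstance, inferInstance, ringChar_two hodd, ?_, ⟨e⟩⟩)
        have h3 := hm2 rfl
        rcases Nat.lt_or_ge 3 (Fintype.card F) with h | h
        · exact h
        · exact absurd (show Odd (Fintype.card F) by rw [le_antisymm h h3]; decide) hodd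
    · exfalso
      by_cases hq : Fintype.card F = 2
      · exact row e (row_psp_two (by omega) hq hna'')
      rcases Nat.even_or_odd m with hev | hod
      · obtain ⟨k, hk⟩ := hev
        have hk' : m = 2 * k := by omega
        subst hk'
        by_cases hk2 : k = 2
        · subst hk2
          exact row e (row_psp8 tab hK hq)
        · exact row e (row_psp_even tab hK (by omega) hq hna'')
      · exact row e (row_psp_odd tab hK (by omega) (Nat.odd_iff.1 hod) hq)
  · -- `PSU`
    obtain ⟨F, _, _, n, q, hF, hn, h32, ⟨e⟩⟩ := hT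
    exfalso
    have hq := isPrimePow_of_sq hF
    by_cases h42 : n = 4 ∧ q = 2
    · obtain ⟨rfl, rfl⟩ := h42
      have : Fact (Nat.Prime 3) := ⟨by norm_num⟩
      obtain ⟨e'⟩ := Cfsg.Agent.S0822.result (F := F) (K := ZMod 3) (by rw [hF]; norm_num) (ZMod.card 3)
      exact row (e.trans e') (Cfsg.Agent.H159.PF.row_psp4 (F := ZMod 3) (by rw [ZMod.card]; decide))
    · exact row e (Cfsg.Agent.H855.PF.row_psu tab hK hF hq hn h32 h42)
  · -- `PΩ` odd
    obtain ⟨F, _, _, m, hm, hodd, ⟨e⟩⟩ := hT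
    obtain ⟨hs', hna''⟩ := simple_congr e hna
    exfalso
    rcases Nat.even_or_odd m with hev | hod
    · obtain ⟨k, hk⟩ := hev
      have hk' : m = 2 * k := by omega
      subst hk'
      by_cases hk2 : k = 2
      · subst hk2
        exact row e (row_o9 tab hK hodd)
      · exact row e (row_oodd_even tab hK hodd (by omega) hna'')
    · exact row e (row_oodd_odd tab hK hodd hm (Nat.odd_iff.1 hod))
  · -- `PΩ⁺`
    obtain ⟨F, _, _, m, hm, ⟨e⟩⟩ := hT
    obtain ⟨hs', hna''⟩ := simple_congr e hna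
    by_cases h4 : m = 4
    · subst h4
      exact Or.inl ⟨F, inferInstance, inferInstance, ⟨e⟩⟩
    exfalso
    rcases Nat.even_or_odd m with hev | hod
    · obtain ⟨k, hk⟩ := hev
      have hk' : m = 2 * k := by omega
      subst hk'
      by_cases h24 : Fintype.card F = 2 ∧ k = 4
      · obtain ⟨hF, rfl⟩ := h24
        exact row e (row_o16 tab hK hF hna'')
      · exact row e (row_oplus_even tab hK (by omega) h24 hna'')
    · exact row e (row_oplus_odd tab hK (by omega) (Nat.odd_iff.1 hod))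
  · -- `PΩ⁻`
    obtain ⟨F, _, _, m, a, b, hm, hab, ⟨e⟩⟩ := hT
    exact (row e (row_ominus tab hK hm hab)).elim
  · -- exceptional
    exfalso
    refine h.not_row hO ?_
    rcases hT with hT | hT | hT | hT | hT | hT | hT | hT | hT | hT | hT
    · exact I.g2 hT
    · exact I.f4 hT
    · exact I.e6 hT
    · exact I.e7 hT
    · exact I.e8 hT
    · exact I.te6 hT
    · exact I.td4 hT
    · exact I.sz hT
    · exact I.ree hT
    · exact I.tf4 hT
    · exact I.tits hT
  · by_cases h12 : Spor.IsoM12 T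
    · exact Or.inr (Or.inr (Or.inr h12))
    · exact (h.not_row hO (I.spor hT h12)).elim

end

end Cfsg.Agent.H997.PF
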