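import Cfsg.Agent.H938.Sax.Base
import Cfsg.Agent.H364.Reduce

/-!
# Primitive factorizations `G = A * φ(A)`, `A` maximal (helper997, for S3522)

`Fac T A φ` : `T` is a normal non-abelian simple subgroup of the finite group `G` with trivial centralizer, `A` is a
maximal subgroup not containing `T`, and `G = A * φ(A)`.
-/

set_option autoImplicit false

namespace Cfsg.Agent.H997.PF

open Subgroup Cfsg.Agent.H938.Sax

universe u

variable {G : Type u} [Group G]

/-- `G = A * φ(A)`, `G` almost simple with socle `T`, `A` maximal and core-free -/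
structure Fac (T A : Subgroup G) (φ : G ≃* G) : Prop where
  fin : Finite G
  normal : T.Normal
  simple : IsSimpleGroup T
  nc : ¬ IsMulCommutative T
  cent : Subgroup.centralizer (T : Set G) = ⊥
  coatom : IsCoatom A
  core : ¬ T ≤ A
  fac : ∀ g : G, ∃ a ∈ A, ∃ b ∈ A, g = a * φ b

namespace Fac

variable {T A : Subgroup G} {φ : G ≃* G}

theorem sup (h : Fac T A φ) : T ⊔ A = ⊤ := by
  rcases h.coatom.le_iff.1 (le_sup_right : A ≤ T ⊔ A) with h1 | h1
  · exact h1
  · exact absurd (h1 ▸ le_sup_left : T ≤ A) h.core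

/-- every element is a product -/
theorem exists_mul (h : Fac T A φ) (g : G) : ∃ t ∈ T, ∃ a ∈ A, g = t * a := by
  have := h.normal
  have h1 : g ∈ T ⊔ A := by rw [h.sup]; exact Subgroup.mem_top g
  obtain ⟨t, ht, a, ha, h2⟩ := Subgroup.mem_sup_of_normal_left.1 h1
  exact ⟨t, ht, a, ha, h2.symm⟩

/-- `φ(T) = T` -/
theorem map_T (h : Fac T A φ) : T.map φ.toMonoidHom = T := by
  have := h.fin
  have hn := h.normal
  have hs := h.simple
  have hn2 : (T.map φ.toMonoidHom).Normal := hn.map _ φ.surjective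
  have hi : (T ⊓ T.map φ.toMonoidHom).Normal := Subgroup.normal_inf_normal _ _
  have hsub : ((T ⊓ T.map φ.toMonoidHom).subgroupOf T).Normal := hi.subgroupOf T
  have hcard : Nat.card (T.map φ.toMonoidHom) = Nat.card T :=
    (Nat.card_congr (φ.subgroupMap T).toEquiv).symm
  rcases hsub.eq_bot_or_eq_top with h1 | h1
  · exfalso
    rw [Subgroup.subgroupOf_eq_bot, disjoint_iff] at h1
    have h2 : T ⊓ T.map φ.toMonoidHom = ⊥ := by
      rw [eq_bot_iff]
      intro x hx
      have h3 : x ∈ (T ⊓ T.map φ.toMonoidHom) ⊓ T := ⟨hx, hx.1⟩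
      rwa [h1] at h3
    have h4 : T.map φ.toMonoidHom ≤ Subgroup.centralizer (T : Set G) := by
      intro x hx
      rw [Subgroup.mem_centralizer_iff]
      intro t ht
      exact Subgroup.commute_of_normal_of_disjoint T (T.map φ.toMonoidHom) hn hn2
        (disjoint_iff.2 h2) t x ht hx
    rw [h.cent] at h4
    have h5 : T.map φ.toMonoidHom = ⊥ := le_bot_iff.1 h4
    rw [Subgroup.map_eq_bot_iff_of_injective _ φ.injective] at h5
    exact (Subgroup.nontrivial_iff_ne_bot T).1 hs.toNontrivial h5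
  · rw [Subgroup.subgroupOf_eq_top] at h1
    have h2 : T ≤ T.map φ.toMonoidHom := h1.trans inf_le_right
    exact (Subgroup.eq_of_le_of_card_ge h2 hcard.le).symm

/-- the inner case is impossible: `φ(A)` is not conjugate to `A` -/
theorem not_conj (h : Fac T A φ) (x : G) : A.map φ.toMonoidHom ≠ A.map (MulAut.conj x).toMonoidHom := by
  intro he
  have hf : ∀ g : G, ∃ a ∈ A, ∃ b ∈ A, g = a * (x * b * x⁻¹) := by
    intro g
    obtain ⟨a, ha, b, hb, rfl⟩ := h.fac g
    have h1 : φ b ∈ A.map (MulAut.conj x).toMonoidHom := by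
      rw [← he]; exact ⟨b, hb, rfl⟩
    obtain ⟨c, hc, hcb⟩ := h1
    refine ⟨a, ha, c, hc, ?_⟩
    have h2 : x * c * x⁻¹ = φ b := hcb
    rw [h2]
  have hx : x ∈ A := by
    obtain ⟨a, ha, b, hb, h1⟩ := hf x⁻¹
    have h2 : x = a⁻¹ * b⁻¹ := by
      have h3 : a * (x * b) = 1 := by
        calc a * (x * b) = a * (x * b * x⁻¹) * x := by group
          _ = x⁻¹ * x := by rw [← h1]
          _ = 1 := by group
      have h4 : x = a⁻¹ * (a * (x * b)) * b⁻¹ := by group
      rw [h4, h3]; group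
    rw [h2]
    exact A.mul_mem (A.inv_mem ha) (A.inv_mem hb)
  refine h.coatom.1 (eq_top_iff.2 fun g _ => ?_)
  obtain ⟨a, ha, b, hb, rfl⟩ := hf g
  exact A.mul_mem ha (A.mul_mem (A.mul_mem hx hb) (A.inv_mem hx))

/-- if `Out T` is trivial there is no factorization -/
theorem not_of_surj (h : Fac T A φ) (hO : Nat.card (Cfsg.Out T) = 1) : False := by
  have := h.fin
  have := h.normal
  have := h.simple
  have hnc : ¬ ∀ x y : T, x * y = y * x := fun hc => h.nc ⟨⟨hc⟩⟩
  have h1 : T.index ∣ 1 := by rw [← hO]; exact Cfsg.Agent.H364.index_dvd_out T hnc h.cent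
  have hT : T = ⊤ := Subgroup.index_eq_one.1 (Nat.dvd_one.1 h1)
  subst hT
  -- the automorphism
  let e : G ≃* (⊤ : Subgroup G) := Subgroup.topEquiv.symm
  let ψ : MulAut (⊤ : Subgroup G) := (e.symm.trans φ).trans e
  have hsub : Subsingleton (Cfsg.Out (⊤ : Subgroup G)) := by
    have : Finite (MulAut (⊤ : Subgroup G)) :=
      Finite.of_injective (fun f : MulAut (⊤ : Subgroup G) => (f : (⊤ : Subgroup G) → (⊤ : Subgroup G)))
        DFunLike.coe_injective
    exact (Nat.card_eq_one_iff_unique.1 hO).1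
  have hψ : ψ ∈ Cfsg.Inn (⊤ : Subgroup G) := by
    have h2 : (QuotientGroup.mk ψ : Cfsg.Out (⊤ : Subgroup G)) = QuotientGroup.mk 1 := Subsingleton.elim _ _
    have h3 := (QuotientGroup.eq_one_iff (N := Cfsg.Inn (⊤ : Subgroup G)) ψ).1
    exact h3 h2
  obtain ⟨x, hx⟩ := hψ
  refine h.not_conj (x : G) ?_
  congr 1
  ext g
  have h4 : (MulAut.conj x : MulAut (⊤ : Subgroup G)) (e g) = ψ (e g) := by rw [hx]
  have h5 := congrArg Subtype.val h4
  show φ g = (x : G) * g * (x : G)⁻¹
  exact h5.symm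

/-- the index divides the order -/
theorem index_dvd (h : Fac T A φ) : A.index ∣ Nat.card A := by
  have := h.fin
  set B := A.map φ.toMonoidHom with hB
  have h0 : B.index = A.index := Subgroup.index_map_equiv A φ
  have h1 : MulAction.orbit A (QuotientGroup.mk 1 : G ⧸ B) = Set.univ := by
    rw [Set.eq_univ_iff_forall]
    intro x
    obtain ⟨g, rfl⟩ := QuotientGroup.mk_surjective x
    obtain ⟨a, ha, b, hb, rfl⟩ := h.fac g
    refine ⟨⟨a, ha⟩, ?_⟩
    show (QuotientGroup.mk (a * 1) : G ⧸ B) = QuotientGroup.mk (a * φ b)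
    rw [mul_one, QuotientGroup.eq]
    have : a⁻¹ * (a * φ b) = φ b := by group
    rw [this]
    exact ⟨b, hb, rfl⟩
  have h2 := MulAction.index_stabilizer A (QuotientGroup.mk 1 : G ⧸ B)
  rw [h1, Set.ncard_univ] at h2
  have h3 : B.index = Nat.card (G ⧸ B) := rfl
  rw [← h0, h3, ← h2]
  exact Subgroup.index_dvd_card _

theorem _root_.Cfsg.Agent.H997.PF.card_subgroupOf (H K : Subgroup G) :
    Nat.card (H.subgroupOf K) = Nat.card (H ⊓ K : Subgroup G) := by
  rw [← Subgroup.subgroupOf_map_subtype]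
  exact Nat.card_congr ((H.subgroupOf K).equivMapOfInjective K.subtype K.subtype_injective).toEquiv

theorem card_inf_mul (h : Fac T A φ) : Nat.card (A.subgroupOf T) * T.index = Nat.card A := by
  have := h.fin
  have := h.normal
  have h1 : T.relIndex A = T.index := by
    rw [← Subgroup.relIndex_sup_right, sup_comm, h.sup, Subgroup.relIndex_top_right]
  have h2 : Nat.card (T.subgroupOf A) * T.relIndex A = Nat.card A := Subgroup.card_mul_index _
  rw [← h2, h1, card_subgroupOf, card_subgroupOf, inf_comm]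

/-- the order equation `|T| ∣ |R|² |G : T|` -/
theorem card_dvd (h : Fac T A φ) :
    Nat.card T ∣ Nat.card (A.subgroupOf T) * Nat.card (A.subgroupOf T) * T.index := by
  have := h.fin
  have h1 : Nat.card G ∣ Nat.card A * Nat.card A := by
    rw [← A.card_mul_index]
    exact Nat.mul_dvd_mul_left _ h.index_dvd
  rw [← h.card_inf_mul, ← T.card_mul_index] at h1
  have h2 : 0 < T.index := Nat.pos_of_ne_zero Subgroup.index_ne_zero_of_finite
  refine Nat.dvd_of_mul_dvd_mul_right h2 (h1.trans (dvd_of_eq ?_))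
  ring

theorem index_dvd_out (h : Fac T A φ) : T.index ∣ Nat.card (Cfsg.Out T) := by
  have := h.fin
  have := h.normal
  have := h.simple
  exact Cfsg.Agent.H364.index_dvd_out T (fun hc => h.nc ⟨⟨hc⟩⟩) h.cent

/-- the order equation `|T| ∣ |R|² |Out T|` -/
theorem card_dvd_out (h : Fac T A φ) :
    Nat.card T ∣ Nat.card (A.subgroupOf T) * Nat.card (A.subgroupOf T) * Nat.card (Cfsg.Out T) :=
  h.card_dvd.trans (Nat.mul_dvd_mul_left _ h.index_dvd_out)

/-- elimination by a `v`-part of the order equation -/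
theorem kill (h : Fac T A φ) {v k l m : ℕ} (hT : v ^ k ∣ Nat.card T)
    (hv : v.Prime) (hR : ¬ v ^ (l + 1) ∣ Nat.card (A.subgroupOf T)) (hO : ¬ v ^ (m + 1) ∣ Nat.card (Cfsg.Out T))
    (hlt : 2 * l + m < k) : False := by
  have := h.fin
  have h1 := hT.trans h.card_dvd_out
  have : Finite (MulAut T) := Finite.of_injective (fun f : MulAut T => (f : T → T)) DFunLike.coe_injective
  have hr0 : Nat.card (A.subgroupOf T) ≠ 0 := Nat.card_pos.ne'
  have ho0 : Nat.card (Cfsg.Out T) ≠ 0 := Nat.card_pos.ne'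
  rw [hv.pow_dvd_iff_le_factorization (mul_ne_zero (mul_ne_zero hr0 hr0) ho0),
    Nat.factorization_mul (mul_ne_zero hr0 hr0) ho0, Nat.factorization_mul hr0 hr0] at h1
  rw [hv.pow_dvd_iff_le_factorization hr0] at hR
  rw [hv.pow_dvd_iff_le_factorization ho0] at hO
  simp only [Finsupp.add_apply] at h1
  omega

theorem ne_top (h : Fac T A φ) : A.subgroupOf T ≠ ⊤ := by
  intro h1
  exact h.core (Subgroup.subgroupOf_eq_top.1 h1)

theorem ne_bot_of_not_pgap {S : Type*} [Group S] [Finite S] [Nontrivial S] {K : Subgroup S} (h : ¬ PGap S K) :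
    K ≠ ⊥ := by
  rintro rfl
  have h1 : Nat.card S ≠ 1 := (Finite.one_lt_card (α := S)).ne'
  obtain ⟨p, hp, hd⟩ := Nat.exists_prime_and_dvd h1
  refine h ⟨p, hp, hd, ?_⟩
  rw [Subgroup.card_bot]
  exact fun h2 => hp.one_lt.ne' (Nat.dvd_one.1 h2)

/-- if no full `v`-part of `|T|` divides `|Out T|` then `R` is full -/
theorem full (h : Fac T A φ)
    (hO : ∀ v : ℕ, v.Prime → v ∣ Nat.card T → ¬ v ^ (Nat.card T).factorization v ∣ Nat.card (Cfsg.Out T)) :
    ¬ PGap T (A.subgroupOf T) := by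
  rintro ⟨v, hv, hvT, hvR⟩
  refine hO v hv hvT ?_
  have h1 := (Nat.ordProj_dvd (Nat.card T) v).trans h.card_dvd_out
  refine Nat.Coprime.dvd_of_dvd_mul_left ?_ h1
  refine Nat.Coprime.pow_left _ ?_
  rw [Nat.coprime_mul_iff_right]
  have : Nat.Coprime v (Nat.card (A.subgroupOf T)) := (Nat.Prime.coprime_iff_not_dvd hv).2 hvR
  exact ⟨this, this⟩

/-- the automorphism of `T` induced by `φ` -/
noncomputable def restr (h : Fac T A φ) : MulAut T :=
  (φ.subgroupMap T).trans (MulEquiv.subgroupCongr h.map_T)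

theorem restr_apply (h : Fac T A φ) (t : T) : ((h.restr t : T) : G) = φ t := rfl

theorem map_restr (h : Fac T A φ) (K : Subgroup T) :
    (K.map h.restr.toMonoidHom).map T.subtype = (K.map T.subtype).map φ.toMonoidHom := by
  ext x
  constructor
  · rintro ⟨_, ⟨y, hy, rfl⟩, rfl⟩
    exact ⟨y, ⟨y, hy, rfl⟩, rfl⟩
  · rintro ⟨_, ⟨y, hy, rfl⟩, rfl⟩
    exact ⟨_, ⟨y, hy, rfl⟩, rfl⟩

end Fac

/-! ### families of overgroups -/

section family

variable {S : Type*} [Group S]

theorem card_map (α : MulAut S) (K : Subgroup S) : Nat.card (K.map α.toMonoidHom) = Nat.card K :=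
  (Nat.card_congr (α.subgroupMap K).toEquiv).symm

theorem map_mul_aut (α β : MulAut S) (K : Subgroup S) :
    K.map (α * β : MulAut S).toMonoidHom = (K.map β.toMonoidHom).map α.toMonoidHom := by
  rw [Subgroup.map_map]
  rfl

theorem pgap_map {K : Subgroup S} (α : MulAut S) (h : PGap S (K.map α.toMonoidHom)) : PGap S K := by
  obtain ⟨r, hr, h1, h2⟩ := h
  exact ⟨r, hr, h1, by rwa [card_map] at h2⟩

theorem pgap_mono [Finite S] {K L : Subgroup S} (hKL : K ≤ L) (h : PGap S L) : PGap S K := by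
  obtain ⟨r, hr, h1, h2⟩ := h
  exact ⟨r, hr, h1, fun h3 => h2 (h3.trans (Subgroup.card_dvd_of_le hKL))⟩

/-- a family of proper subgroups such that every full proper subgroup lies in exactly one member -/
structure Fam (S : Type*) [Group S] (𝓜 : Set (Subgroup S)) : Prop where
  ne_top : ∀ M ∈ 𝓜, M ≠ ⊤
  exi : ∀ K : Subgroup S, K ≠ ⊤ → ¬ PGap S K → ∃ M ∈ 𝓜, K ≤ M
  uni : ∀ K : Subgroup S, ¬ PGap S K → ∀ M ∈ 𝓜, ∀ M' ∈ 𝓜, K ≤ M → K ≤ M' → M = M'

theorem Fam.map_mem [Finite S] {𝓜 : Set (Subgroup S)} (hF : Fam S 𝓜) {M : Subgroup S} (hM : M ∈ 𝓜)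
    (hMf : ¬ PGap S M) (α : MulAut S) : M.map α.toMonoidHom ∈ 𝓜 := by
  have hf : ¬ PGap S (M.map α.toMonoidHom) := fun h => hMf (pgap_map α h)
  have hne : M.map α.toMonoidHom ≠ ⊤ := by
    intro h
    apply hF.ne_top M hM
    apply Subgroup.eq_top_of_card_eq
    rw [← card_map α M, h, Subgroup.card_top]
  obtain ⟨M', hM', h1⟩ := hF.exi _ hne hf
  have hf' : ¬ PGap S M' := fun h => hf (pgap_mono h1 h)
  have hf'' : ¬ PGap S (M'.map (α⁻¹ : MulAut S).toMonoidHom) := fun h => hf' (pgap_map _ h)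
  have hne' : M'.map (α⁻¹ : MulAut S).toMonoidHom ≠ ⊤ := by
    intro h
    apply hF.ne_top M' hM'
    apply Subgroup.eq_top_of_card_eq
    rw [← card_map α⁻¹ M', h, Subgroup.card_top]
  obtain ⟨M'', hM'', h2⟩ := hF.exi _ hne' hf''
  have h3 : M ≤ M'.map (α⁻¹ : MulAut S).toMonoidHom := by
    intro x hx
    refine ⟨α x, h1 ⟨x, hx, rfl⟩, ?_⟩
    show α⁻¹ (α x) = x
    simp
  have h4 : M = M'' := hF.uni M hMf M hM M'' hM'' le_rfl (h3.trans h2)
  have h5 : M' ≤ M.map α.toMonoidHom := by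
    intro x hx
    refine ⟨α⁻¹ x, ?_, ?_⟩
    · rw [h4]; exact h2 ⟨x, hx, rfl⟩
    · show α (α⁻¹ x) = x
      simp
  rw [← le_antisymm h5 h1]
  exact hM'

end family

namespace Fac

variable {T A : Subgroup G} {φ : G ≃* G}

theorem map_conjNormal [T.Normal] (g : G) (K : Subgroup T) :
    (K.map (MulAut.conjNormal g : MulAut T).toMonoidHom).map T.subtype =
      (K.map T.subtype).map (MulAut.conj g).toMonoidHom := by
  ext x
  constructor
  · rintro ⟨_, ⟨y, hy, rfl⟩, rfl⟩
    exact ⟨y, ⟨y, hy, rfl⟩, rfl⟩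
  · rintro ⟨_, ⟨y, hy, rfl⟩, rfl⟩
    exact ⟨_, ⟨y, hy, rfl⟩, rfl⟩

theorem mem_normalizer_iff_map {H : Subgroup G} {g : G} :
    g ∈ Subgroup.normalizer (H : Set G) ↔ H.map (MulAut.conj g).toMonoidHom = H :=
  Subgroup.mem_normalizer_iff_map_conj_eq

/-- `A` is the normalizer of the member of the family containing `A ∩ T` -/
theorem exists_norm (h : Fac T A φ) (hf : ¬ PGap T (A.subgroupOf T)) {𝓜 : Set (Subgroup T)} (hF : Fam T 𝓜) :
    ∃ M ∈ 𝓜, ¬ PGap T M ∧ A = Subgroup.normalizer ((M.map T.subtype : Subgroup G) : Set G) := by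
  have := h.fin
  have := h.normal
  have := h.simple
  obtain ⟨M, hM, hRM⟩ := hF.exi _ h.ne_top hf
  have hMf : ¬ PGap T M := fun h1 => hf (pgap_mono hRM h1)
  refine ⟨M, hM, hMf, ?_⟩
  have hle : A ≤ Subgroup.normalizer ((M.map T.subtype : Subgroup G) : Set G) := by
    intro a ha
    rw [mem_normalizer_iff_map, ← map_conjNormal]
    congr 1
    refine (hF.uni _ hf M hM _ (hF.map_mem hM hMf _) hRM ?_).symm
    intro x hx
    refine ⟨(MulAut.conjNormal a : MulAut T)⁻¹ x, hRM ?_, ?_⟩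
    · rw [← map_inv]
      show ((MulAut.conjNormal a⁻¹ x : T) : G) ∈ A
      rw [MulAut.conjNormal_apply]
      exact A.mul_mem (A.mul_mem (A.inv_mem ha) hx) (A.inv_mem (A.inv_mem ha))
    · show (MulAut.conjNormal a : MulAut T) ((MulAut.conjNormal a : MulAut T)⁻¹ x) = x
      simp
  rcases h.coatom.le_iff.1 hle with h1 | h1
  · exfalso
    have h2 : (M.map T.subtype).Normal := Subgroup.normalizer_eq_top_iff.1 h1
    have h3 : M.Normal := by
      have h4 : (M.map T.subtype).subgroupOf T = M := by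
        ext x
        simp [Subgroup.mem_subgroupOf]
      rw [← h4]
      exact h2.subgroupOf T
    rcases h3.eq_bot_or_eq_top with h4 | h4
    · exact ne_bot_of_not_pgap hMf h4
    · exact hF.ne_top M hM h4
  · exact h1.symm

theorem map_normalizer (φ : G ≃* G) (H : Subgroup G) :
    (Subgroup.normalizer (H : Set G)).map φ.toMonoidHom =
      Subgroup.normalizer ((H.map φ.toMonoidHom : Subgroup G) : Set G) :=
  Subgroup.map_equiv_normalizer_eq H φ

/-- a family permuted transitively by `T` gives a contradiction -/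
theorem false_of_fam (h : Fac T A φ) (hf : ¬ PGap T (A.subgroupOf T)) {𝓜 : Set (Subgroup T)} (hF : Fam T 𝓜)
    (htr : ∀ M ∈ 𝓜, ∀ M' ∈ 𝓜, ∃ t : T, M' = M.map (MulAut.conj t).toMonoidHom) : False := by
  have := h.fin
  have := h.normal
  obtain ⟨M, hM, hMf, hA⟩ := h.exists_norm hf hF
  obtain ⟨t, ht⟩ := htr M hM _ (hF.map_mem hM hMf h.restr)
  refine h.not_conj (t : G) ?_
  rw [hA, map_normalizer, ← h.map_restr, ht]
  have h1 : (M.map (MulAut.conj t).toMonoidHom).map T.subtype =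
      (M.map T.subtype).map (MulAut.conj (t : G)).toMonoidHom := by
    ext x
    constructor
    · rintro ⟨_, ⟨y, hy, rfl⟩, rfl⟩
      exact ⟨y, ⟨y, hy, rfl⟩, rfl⟩
    · rintro ⟨_, ⟨y, hy, rfl⟩, rfl⟩
      exact ⟨_, ⟨y, hy, rfl⟩, rfl⟩
  rw [h1, ← map_normalizer]

/-- the two members of a family belonging to `A` and `φ(A)` -/
theorem exists_pair (h : Fac T A φ) (hf : ¬ PGap T (A.subgroupOf T)) {𝓜 : Set (Subgroup T)} (hF : Fam T 𝓜) :
    ∃ M ∈ 𝓜, ∃ M' ∈ 𝓜, (∀ t : T, M' ≠ M.map (MulAut.conj t).toMonoidHom) ∧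
      Nat.card M' = Nat.card M ∧
      ∀ t : T, Nat.card (M ⊓ M'.map (MulAut.conj t).toMonoidHom : Subgroup T) = Nat.card (M ⊓ M' : Subgroup T) := by
  have := h.fin
  have := h.normal
  obtain ⟨M, hM, hMf, hA⟩ := h.exists_norm hf hF
  have h1 : ∀ t : T, (M.map (MulAut.conj t).toMonoidHom).map T.subtype =
      (M.map T.subtype).map (MulAut.conj (t : G)).toMonoidHom := by
    intro t
    ext x
    constructor
    · rintro ⟨_, ⟨y, hy, rfl⟩, rfl⟩
      exact ⟨y, ⟨y, hy, rfl⟩, rfl⟩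
    · rintro ⟨_, ⟨y, hy, rfl⟩, rfl⟩
      exact ⟨_, ⟨y, hy, rfl⟩, rfl⟩
  refine ⟨M, hM, _, hF.map_mem hM hMf h.restr, fun t ht => h.not_conj (t : G) ?_, card_map _ _, fun t => ?_⟩
  · rw [hA, map_normalizer, ← h.map_restr, ht, h1, ← map_normalizer]
  · set M' := M.map h.restr.toMonoidHom with hM'
    have hB : A.map φ.toMonoidHom = Subgroup.normalizer ((M'.map T.subtype : Subgroup G) : Set G) := by
      rw [hM', h.map_restr, ← map_normalizer, ← hA]
    obtain ⟨a, ha, b, hb, hab⟩ := h.fac (t : G)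
    have ha' : M.map (MulAut.conjNormal a : MulAut T).toMonoidHom = M := by
      apply Subgroup.map_injective T.subtype_injective
      rw [map_conjNormal, ← mem_normalizer_iff_map, ← hA]
      exact ha
    have hb' : M'.map (MulAut.conjNormal (φ b) : MulAut T).toMonoidHom = M' := by
      apply Subgroup.map_injective T.subtype_injective
      rw [map_conjNormal, ← mem_normalizer_iff_map, ← hB]
      exact ⟨b, hb, rfl⟩
    have ht : (MulAut.conj t : MulAut T) = MulAut.conjNormal a * MulAut.conjNormal (φ b) := by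
      rw [← map_mul, ← hab]
      ext x
      rw [MulAut.conjNormal_apply]
      rfl
    have h2 : M'.map (MulAut.conj t).toMonoidHom = M'.map (MulAut.conjNormal a : MulAut T).toMonoidHom := by
      have h3 : (M'.map (MulAut.conjNormal (φ b) : MulAut T).toMonoidHom).map
          (MulAut.conjNormal a : MulAut T).toMonoidHom = M'.map (MulAut.conjNormal a : MulAut T).toMonoidHom := by
        rw [hb']
      rw [← h3, ht, map_mul_aut]
    rw [h2]
    conv_lhs => rw [← ha']
    rw [← Subgroup.map_inf _ _ _ (MulEquiv.injective _)]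
    exact card_map _ _

end Fac

end Cfsg.Agent.H997.PF
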