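import Cfsg.Agent.H997.PF.Rows
import Cfsg.Agent.H938.Sax.Frat

/-!
# The local data `LD` for linear groups (helper997, for S3522)
-/

set_option autoImplicit false
set_option linter.style.haveILetI false

namespace Cfsg.Agent.H997.PF

open Module Polynomial Cfsg.Agent.H884.El Cfsg.Agent.H938.Sax Cfsg.Agent.H264.GN
open Cfsg.Agent.H951 (fx cm Inv Irr)

variable {F : Type} [Field F] [Fintype F] {ι : Type} [Fintype ι] [DecidableEq ι] {X T : Type*} [Group X] [Group T]
  [Finite X] {e s : ℕ}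

/-- an element of order `r` prime to `e` which normalises `⟨z⟩`, `|z| = s`, centralises `z` -/
theorem comm_of_cover (hs : PP (Nat.card F) e s) (he : 2 ≤ e) (hdim : Fintype.card ι < 2 * e)
    (σ : X →* Matrix.GeneralLinearGroup ι F) (hσ : Function.Injective σ) (π : X →* T) (hπ : Function.Surjective π)
    (hker : ∀ z, π z = 1 → z ∈ Subgroup.center X ∧ z ^ 2 = 1) {r : ℕ} (hr : r.Prime) (hr2 : r ≠ 2)
    (hre : r.Coprime e) {y z : T} (hyo : orderOf y = r) (hzo : orderOf z = s)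
    (hyz : y * z * y⁻¹ ∈ Subgroup.zpowers z) : y * z = z * y := by
  have hfr := Fact.mk hs.prime
  have hsodd : Odd s := hs.odd he
  have hrodd : Odd r := hr.odd_of_ne_two hr2
  obtain ⟨j, hj⟩ : ∃ j : ℕ, y * z * y⁻¹ = z ^ j := by
    have h1 : y * z * y⁻¹ ∈ Submonoid.powers z := by
      have : Finite T := Finite.of_surjective π hπ
      exact mem_powers_iff_mem_zpowers.2 hyz
    obtain ⟨j, hj⟩ := h1
    exact ⟨j, hj.symm⟩
  obtain ⟨x₀, rfl⟩ := hπ z
  obtain ⟨y₀, rfl⟩ := hπ y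
  obtain ⟨n, h1, h2⟩ := exists_lift_odd π (fun z hz => (hker z hz).2) hsodd hzo
  obtain ⟨m, h3, h4⟩ := exists_lift_odd π (fun z hz => (hker z hz).2) hrodd hyo
  generalize x₀ ^ n = a at h1 h2
  generalize y₀ ^ m = b at h3 h4
  rw [← h1, ← h3] at hj
  rw [← h1, ← h3]
  -- the relation lifts
  have h5 : π (b * a * b⁻¹ * (a ^ j)⁻¹) = 1 := by
    rw [map_mul, map_mul, map_mul, map_inv, map_inv, map_pow, hj, mul_inv_cancel]
  obtain ⟨hc, hz2⟩ := hker _ h5
  obtain ⟨z, hz⟩ : ∃ z, z = b * a * b⁻¹ * (a ^ j)⁻¹ := ⟨_, rfl⟩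
  rw [← hz] at hc hz2
  have h6 : b * a * b⁻¹ = z * a ^ j := by rw [hz]; group
  have h7 : (b * a * b⁻¹) ^ s = 1 := by
    rw [conj_pow, ← h2, pow_orderOf_eq_one, mul_one, mul_inv_cancel]
  have h8 : (z * a ^ j) ^ s = z ^ s := by
    have hcomm : Commute z (a ^ j) := (Subgroup.mem_center_iff.1 hc (a ^ j)).symm
    rw [hcomm.mul_pow, ← pow_mul, mul_comm j s, pow_mul, ← h2, pow_orderOf_eq_one, one_pow, mul_one]
  have hz1 : z = 1 := by
    rw [← h6, h7] at h8
    obtain ⟨k, hk⟩ := hsodd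
    rw [hk, pow_succ, pow_mul, hz2, one_pow, one_mul] at h8
    exact h8.symm
  rw [hz1, one_mul] at h6
  have h9 : b * a = a ^ j * b := by rw [← h6]; group
  -- linear maps
  have hmul : ∀ g h : X, lin (σ (g * h)) = lin (σ g) * lin (σ h) := fun g h => by
    rw [map_mul, lin, Units.val_mul, Matrix.toLin'_mul]; rfl
  have hpow : ∀ (g : X) (k : ℕ), lin (σ (g ^ k)) = lin (σ g) ^ k := by
    intro g k
    induction k with
    | zero => rw [pow_zero, pow_zero, map_one, lin_one]
    | succ k ih => rw [pow_succ, pow_succ, hmul, ih]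
  have hx1 : lin (σ a) ^ s = 1 := by
    rw [← hpow, ← h2, pow_orderOf_eq_one, map_one, lin_one]
  have hxne : lin (σ a) ≠ 1 := by
    intro h
    rw [← lin_one] at h
    have h10 := hσ ((lin_injective h).trans (map_one σ).symm)
    rw [h10, orderOf_one] at h2
    exact hs.prime.one_lt.ne h2
  have hy1 : lin (σ b) ^ r = 1 := by
    rw [← hpow, ← h4, pow_orderOf_eq_one, map_one, lin_one]
  have hrel : lin (σ b) * lin (σ a) = lin (σ a) ^ j * lin (σ b) := by
    rw [← hmul, h9, hmul, hpow]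
  have hfin : finrank F (ι → F) = Fintype.card ι := Module.finrank_fintype_fun_eq_card F
  have hcm : finrank F (cm (lin (σ a))) = e := by
    have hr0 := hs.ne0 (by omega)
    have h10 : e ∣ finrank F (cm (lin (σ a))) := by
      rw [← ord_eq hs]
      exact H951.ord_dvd_finrank hx1 H951.inv_cm (H951.inf_fx_of_le_cm hr0 hx1 le_rfl)
    obtain ⟨k, hk⟩ := h10
    have h11 : finrank F (cm (lin (σ a))) ≤ finrank F (ι → F) := Submodule.finrank_le _
    have h12 : finrank F (cm (lin (σ a))) ≠ 0 := fun h0 => by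
      rw [Submodule.finrank_eq_zero, H951.cm, LinearMap.range_eq_bot, sub_eq_zero] at h0
      exact hxne h0
    have h13 : k = 1 := by
      have h14 : k < 2 := by
        by_contra hcon
        have := Nat.mul_le_mul_left e (show 2 ≤ k by omega)
        omega
      have h15 : k ≠ 0 := by rintro rfl; omega
      omega
    rw [hk, h13, mul_one]
  have h10 := Frat.comm_of_norm hs he hx1 hcm hrel hre hy1 hr.ne_zero
  rw [← hmul, ← hmul] at h10
  have h11 := hσ (lin_injective h10)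
  rw [← map_mul, h11, map_mul]

/-- **The local data** for `r`, `s` with `ord_s(q) = e`, `dim < 2 e`, `r` prime to `e`. -/
theorem ld_of_cover (hs : PP (Nat.card F) e s) (he : 2 ≤ e) (hdim : Fintype.card ι < 2 * e)
    (σ : X →* Matrix.GeneralLinearGroup ι F) (hσ : Function.Injective σ) (π : X →* T) (hπ : Function.Surjective π)
    (hker : ∀ z, π z = 1 → z ∈ Subgroup.center X ∧ z ^ 2 = 1) {d r : ℕ} (hr : r.Prime) (hr2 : r ≠ 2)
    (hre : r.Coprime e) (hrs : r ≠ s) (hrd : ¬ r ∣ d) (hsd : ¬ s ∣ d) (hex : ∃ x : T, orderOf x = r * s) :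
    LD T d r s where
  hr := hr
  hs := hs.prime
  hrs := hrs
  hrO := hrd
  hsO := hsd
  cyc := Cfsg.Agent.H264.FKS.cyc_of_gl
    (prim_of_pp (Nat.card_pos (α := F)) (by omega) hs) he hdim σ hσ π hπ
  ex := hex
  comm _ _ hy hz hyz := comm_of_cover hs he hdim σ hσ π hπ hker hr hr2 hre hy hz hyz

end Cfsg.Agent.H997.PF
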