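import Cfsg.Agent.H997.PF.Base
import Cfsg.Agent.OddOrderLocal.CyclicSub

/-!
# The local test for primitive factorizations `G = A * φ(A)` (helper997, for S3522)

If the Sylow `s`-subgroups of `T` are cyclic, `s` divides `|A ∩ T|`, and `T` has an element of order `r * s`, where elements of order `r` normalising a subgroup of order `s` centralise it, then `A ∩ T` has an element of
order `r * s`.
-/

set_option autoImplicit false

namespace Cfsg.Agent.H997.PF

open Subgroup Cfsg.Agent.H938.Sax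

universe u

section abs

variable {G : Type*} [Group G]

/-- subgroups of prime order `s` are conjugate when the `s`-subgroups are cyclic -/
theorem conj_of_cyclic [Finite G] {K X Y : Subgroup G} {s : ℕ} [hs : Fact s.Prime]
    (hcyc : ∀ P : Subgroup G, P ≤ K → IsPGroup s P → IsCyclic P) (hX : X ≤ K) (hY : Y ≤ K)
    (cX : Nat.card X = s) (cY : Nat.card Y = s) : ∃ k ∈ K, Y = X.map (MulAut.conj k).toMonoidHom := by
  have pX : IsPGroup s (X.subgroupOf K) := by
    apply IsPGroup.of_card (n := 1)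
    rw [card_subgroupOf, inf_eq_left.2 hX, cX, pow_one]
  have pY : IsPGroup s (Y.subgroupOf K) := by
    apply IsPGroup.of_card (n := 1)
    rw [card_subgroupOf, inf_eq_left.2 hY, cY, pow_one]
  obtain ⟨P, hP⟩ := pX.exists_le_sylow
  obtain ⟨Q, hQ⟩ := pY.exists_le_sylow
  obtain ⟨k, hk⟩ := MulAction.exists_smul_eq K P Q
  have hQ' : (Q : Subgroup K) = (P : Subgroup K).map (MulAut.conj k).toMonoidHom := by
    rw [← hk]; rfl
  have h1 : ((Q : Subgroup K).map K.subtype) = ((P : Subgroup K).map K.subtype).map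
      (MulAut.conj (k : G)).toMonoidHom := by
    rw [hQ']
    ext x
    constructor
    · rintro ⟨_, ⟨y, hy, rfl⟩, rfl⟩
      exact ⟨y, ⟨y, hy, rfl⟩, rfl⟩
    · rintro ⟨_, ⟨y, hy, rfl⟩, rfl⟩
      exact ⟨_, ⟨y, hy, rfl⟩, rfl⟩
  have hc : IsCyclic ((Q : Subgroup K).map K.subtype) :=
    hcyc _ (Subgroup.map_subtype_le _) (Q.isPGroup'.map _)
  refine ⟨k, k.2, ?_⟩
  refine Cfsg.Agent.OddOrderLocal.CyclicSub.eq_of_card_eq_of_le_cyclic hc ?_ ?_ ?_
  · intro y hy
    exact ⟨⟨y, hY hy⟩, hQ hy, rfl⟩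
  · rw [h1]
    apply Subgroup.map_mono
    intro y hy
    exact ⟨⟨y, hX hy⟩, hP hy, rfl⟩
  · rw [cY, ← cX]
    exact Nat.card_congr (X.equivMapOfInjective (MulAut.conj (k : G)).toMonoidHom (MulAut.conj (k : G)).injective).toEquiv

/-- `N_G(X) = N_A(X) N_B(X)` -/
theorem normalizer_factor [Finite G] {A B X : Subgroup G} {s : ℕ} [hs : Fact s.Prime]
    (hAB : ∀ g : G, ∃ a ∈ A, ∃ b ∈ B, g = a * b)
    (hcyc : ∀ P : Subgroup G, P ≤ A ⊓ B → IsPGroup s P → IsCyclic P) (hX : X ≤ A ⊓ B) (cX : Nat.card X = s)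
    {g : G} (hg : g ∈ Subgroup.normalizer (X : Set G)) :
    ∃ a ∈ A ⊓ Subgroup.normalizer (X : Set G), ∃ b ∈ B ⊓ Subgroup.normalizer (X : Set G), g = a * b := by
  obtain ⟨a, ha, b, hb, rfl⟩ := hAB g
  rw [Fac.mem_normalizer_iff_map] at hg
  have key : X.map (MulAut.conj b).toMonoidHom = X.map (MulAut.conj a⁻¹).toMonoidHom := by
    have h1 : X.map (MulAut.conj (a * b)).toMonoidHom =
        (X.map (MulAut.conj b).toMonoidHom).map (MulAut.conj a).toMonoidHom := by
      rw [Subgroup.map_map, map_mul]; rfl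
    have hinv : (MulAut.conj a⁻¹).toMonoidHom.comp (MulAut.conj a).toMonoidHom = MonoidHom.id G := by
      ext z
      show a⁻¹ * (a * z * a⁻¹) * a⁻¹⁻¹ = z
      group
    calc X.map (MulAut.conj b).toMonoidHom
        = ((X.map (MulAut.conj b).toMonoidHom).map (MulAut.conj a).toMonoidHom).map
            (MulAut.conj a⁻¹).toMonoidHom := by
          rw [Subgroup.map_map _ (MulAut.conj a⁻¹).toMonoidHom, hinv, Subgroup.map_id]
      _ = X.map (MulAut.conj a⁻¹).toMonoidHom := by rw [← h1, hg]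
  have hY : X.map (MulAut.conj b).toMonoidHom ≤ A ⊓ B := by
    apply le_inf
    · rw [key]
      rintro _ ⟨x, hx, rfl⟩
      exact A.mul_mem (A.mul_mem (A.inv_mem ha) (hX hx).1) (A.inv_mem (A.inv_mem ha))
    · rintro _ ⟨x, hx, rfl⟩
      exact B.mul_mem (B.mul_mem hb (hX hx).2) (B.inv_mem hb)
  have cY : Nat.card (X.map (MulAut.conj b).toMonoidHom) = s := by
    rw [← cX]
    exact (Nat.card_congr (X.equivMapOfInjective (MulAut.conj b).toMonoidHom (MulAut.conj b).injective).toEquiv).symm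
  obtain ⟨c, hc, hc1⟩ := conj_of_cyclic hcyc hX hY cX cY
  have hcomp : ∀ x y : G, (X.map (MulAut.conj y).toMonoidHom).map (MulAut.conj x).toMonoidHom =
      X.map (MulAut.conj (x * y)).toMonoidHom := by
    intro x y
    rw [Subgroup.map_map, map_mul]; rfl
  have h2 : c⁻¹ * b ∈ Subgroup.normalizer (X : Set G) := by
    rw [Fac.mem_normalizer_iff_map, ← hcomp, hc1, hcomp, inv_mul_cancel, map_one]
    exact Subgroup.map_id X
  refine ⟨a * c, ⟨A.mul_mem ha hc.1, ?_⟩, c⁻¹ * b, ⟨B.mul_mem (B.inv_mem hc.2) hb, h2⟩, by group⟩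
  have h3 : a * b ∈ Subgroup.normalizer (X : Set G) := by
    rwa [Fac.mem_normalizer_iff_map]
  have h4 : a * c = (a * b) * (c⁻¹ * b)⁻¹ := by group
  rw [h4]
  exact Subgroup.mul_mem _ h3 (Subgroup.inv_mem _ h2)

/-- a prime dividing the order of a product of two subgroups divides one of the orders -/
theorem dvd_card_of_factor [Finite G] {N A B : Subgroup G} {r : ℕ} (hr : r.Prime) (hA : A ≤ N) (hB : B ≤ N)
    (hAB : ∀ g ∈ N, ∃ a ∈ A, ∃ b ∈ B, g = a * b) (hd : r ∣ Nat.card N) : r ∣ Nat.card A ∨ r ∣ Nat.card B := by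
  by_contra hcon
  push Not at hcon
  have h1 : Nat.card N ∣ Nat.card A * Nat.card B := by
    -- `A` acts transitively on `N / B`
    have h2 : MulAction.orbit (A.subgroupOf N) (QuotientGroup.mk 1 : N ⧸ B.subgroupOf N) = Set.univ := by
      rw [Set.eq_univ_iff_forall]
      intro x
      obtain ⟨g, rfl⟩ := QuotientGroup.mk_surjective x
      obtain ⟨a, ha, b, hb, hg⟩ := hAB g g.2
      refine ⟨⟨⟨a, hA ha⟩, ha⟩, ?_⟩
      show (QuotientGroup.mk ((⟨a, hA ha⟩ : N) * 1) : N ⧸ B.subgroupOf N) = QuotientGroup.mk g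
      rw [mul_one, QuotientGroup.eq]
      have : (⟨a, hA ha⟩ : N)⁻¹ * g = ⟨b, hB hb⟩ := by
        apply Subtype.ext
        show a⁻¹ * (g : G) = b
        rw [hg]; group
      rw [this]
      exact hb
    have h3 := MulAction.index_stabilizer (A.subgroupOf N) (QuotientGroup.mk 1 : N ⧸ B.subgroupOf N)
    rw [h2, Set.ncard_univ] at h3
    have h4 : (B.subgroupOf N).index ∣ Nat.card (A.subgroupOf N) := by
      show Nat.card (N ⧸ B.subgroupOf N) ∣ _
      rw [← h3]
      exact Subgroup.index_dvd_card _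
    rw [← (B.subgroupOf N).card_mul_index, mul_comm]
    rw [card_subgroupOf, inf_eq_left.2 hA] at h4
    rw [card_subgroupOf B N, inf_eq_left.2 hB]
    exact Nat.mul_dvd_mul_right h4 _
  rcases (hr.dvd_mul).1 (hd.trans h1) with h | h
  · exact hcon.1 h
  · exact hcon.2 h

end abs

namespace Fac

variable {G : Type u} [Group G] {T A : Subgroup G} {φ : G ≃* G}

/-- elements of order prime to `|G : T|` lie in `T` -/
theorem mem_of_not_dvd [Finite G] (T : Subgroup G) [T.Normal] {r : ℕ} (hr : r.Prime) (hd : ¬ r ∣ T.index) {x : G}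
    {n : ℕ} (hx : x ^ r ^ n = 1) : x ∈ T := by
  rw [← QuotientGroup.eq_one_iff]
  have h1 : orderOf (QuotientGroup.mk x : G ⧸ T) ∣ r ^ n := by
    apply orderOf_dvd_of_pow_eq_one
    rw [← QuotientGroup.mk_pow, hx]; rfl
  have h2 : orderOf (QuotientGroup.mk x : G ⧸ T) ∣ Nat.card (G ⧸ T) := orderOf_dvd_natCard _
  have h3 : Nat.Coprime (r ^ n) (Nat.card (G ⧸ T)) := Nat.Coprime.pow_left _ ((Nat.Prime.coprime_iff_not_dvd hr).2 hd)
  exact orderOf_eq_one_iff.1 (Nat.eq_one_of_dvd_coprimes h3 h1 h2)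

/-- replacing `φ` by `φ` followed by a conjugation -/
theorem conj (h : Fac T A φ) (k : G) : Fac T A (φ.trans (MulAut.conj k)) where
  fin := h.fin
  normal := h.normal
  simple := h.simple
  nc := h.nc
  cent := h.cent
  coatom := h.coatom
  core := h.core
  fac g := by
    obtain ⟨a₀, ha₀, b₀, hb₀, hk⟩ := h.fac k
    obtain ⟨a₁, ha₁, b₁, hb₁, hg⟩ := h.fac (g * a₀)
    refine ⟨a₁ * a₀⁻¹, A.mul_mem ha₁ (A.inv_mem ha₀), b₀⁻¹ * b₁ * b₀,
      A.mul_mem (A.mul_mem (A.inv_mem hb₀) hb₁) hb₀, ?_⟩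
    show g = a₁ * a₀⁻¹ * (k * φ (b₀⁻¹ * b₁ * b₀) * k⁻¹)
    rw [hk, map_mul, map_mul, map_inv]
    have h1 : g = g * a₀ * a₀⁻¹ := by group
    rw [h1, hg]
    group

/-- **The local test.** -/
theorem loc (h : Fac T A φ) {r s : ℕ} (hr : r.Prime) (hs : s.Prime) (hrs : r ≠ s)
    (hrG : ¬ r ∣ T.index) (hsG : ¬ s ∣ T.index) (hsR : s ∣ Nat.card (A.subgroupOf T))
    (hcyc : ∀ P : Subgroup T, IsPGroup s P → IsCyclic P)
    (hx : ∃ x : T, orderOf x = r * s)
    (hN : ∀ y z : T, orderOf y = r → orderOf z = s → y * z * y⁻¹ ∈ Subgroup.zpowers z → y * z = z * y) :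
    ∃ x ∈ A.subgroupOf T, orderOf x = r * s := by
  have := h.fin
  have := h.normal
  have := Fact.mk hr
  have := Fact.mk hs
  obtain ⟨x, hx⟩ := hx
  -- `s`-subgroups of `G` are cyclic
  have hmem : ∀ {t : ℕ}, t.Prime → ¬ t ∣ T.index → ∀ P : Subgroup G, IsPGroup t P → P ≤ T := by
    intro t ht htG P hP z hz
    obtain ⟨n, hn⟩ := hP ⟨z, hz⟩
    exact mem_of_not_dvd T ht htG (x := z) (n := n) (congrArg Subtype.val hn)
  have hcycG : ∀ P : Subgroup G, IsPGroup s P → IsCyclic P := by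
    intro P hP
    have hPT := hmem hs hsG P hP
    have h1 : IsPGroup s (P.subgroupOf T) := hP.of_injective (Subgroup.subgroupOfEquivOfLe hPT).toMonoidHom
      (Subgroup.subgroupOfEquivOfLe hPT).injective
    have h2 := hcyc _ h1
    exact (Subgroup.subgroupOfEquivOfLe hPT).isCyclic.1 h2
  -- a subgroup of order `s` of `A`
  obtain ⟨⟨⟨z, hzT⟩, hzA⟩, hz1⟩ := exists_prime_orderOf_dvd_card' s hsR
  have hz1' : orderOf z = s := by
    rw [← hz1, ← Subgroup.orderOf_coe, ← Subgroup.orderOf_coe]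
  have hzA' : z ∈ A := hzA
  have ho : ∀ w : G, orderOf (φ w) = orderOf w := fun w => orderOf_injective φ.toMonoidHom φ.injective w
  obtain ⟨k, -, hk⟩ := conj_of_cyclic (K := (⊤ : Subgroup G)) (X := Subgroup.zpowers (φ z))
    (Y := Subgroup.zpowers z) (s := s) (fun P _ hP => hcycG P hP) le_top le_top
    (by rw [Nat.card_zpowers, ho, hz1']) (by rw [Nat.card_zpowers, hz1'])
  -- replace `φ`
  have h' := h.conj k
  have hzB : Subgroup.zpowers z ≤ A.map (φ.trans (MulAut.conj k)).toMonoidHom := by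
    rw [hk]
    rintro _ ⟨w, hw, rfl⟩
    obtain ⟨j, rfl⟩ := Subgroup.mem_zpowers_iff.1 hw
    refine ⟨z ^ j, A.zpow_mem hzA' j, ?_⟩
    show k * φ (z ^ j) * k⁻¹ = k * (φ z) ^ j * k⁻¹
    rw [map_zpow]
  clear hk
  revert h' hzB
  generalize φ.trans (MulAut.conj k) = ψ
  intro h' hzB
  set B := A.map ψ.toMonoidHom with hBdef
  have hAB : ∀ g : G, ∃ a ∈ A, ∃ b ∈ B, g = a * b := by
    intro g
    obtain ⟨a, ha, b, hb, rfl⟩ := h'.fac g
    exact ⟨a, ha, ψ b, ⟨b, hb, rfl⟩, rfl⟩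
  have cX : Nat.card (Subgroup.zpowers z) = s := by rw [Nat.card_zpowers, hz1']
  have hX : Subgroup.zpowers z ≤ A ⊓ B := le_inf ((Subgroup.zpowers_le).2 hzA') hzB
  have hz : z ∈ A ⊓ B := hX (Subgroup.mem_zpowers z)
  -- `r` divides `|N_G(X)|`
  have hrN : r ∣ Nat.card (Subgroup.normalizer ((Subgroup.zpowers z : Subgroup G) : Set G)) := by
    have hx' : orderOf (x : G) = r * s := by rw [Subgroup.orderOf_coe]; exact hx
    have hs1 : orderOf ((x : G) ^ r) = s := by
      rw [orderOf_pow, hx', Nat.gcd_eq_right (Dvd.intro _ rfl), Nat.mul_div_cancel_left _ hr.pos]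
    have hr1 : orderOf ((x : G) ^ s) = r := by
      rw [orderOf_pow, hx', Nat.gcd_eq_right (Dvd.intro_left _ rfl), Nat.mul_div_cancel _ hs.pos]
    obtain ⟨k, -, hk⟩ := conj_of_cyclic (K := (⊤ : Subgroup G)) (X := Subgroup.zpowers ((x : G) ^ r))
      (Y := Subgroup.zpowers z) (s := s) (fun P _ hP => hcycG P hP) le_top le_top
      (by rw [Nat.card_zpowers, hs1]) cX
    have hy : orderOf (k * (x : G) ^ s * k⁻¹) = r := by
      rw [← hr1]
      exact orderOf_injective (MulAut.conj k).toMonoidHom (MulAut.conj k).injective _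
    have hyN : k * (x : G) ^ s * k⁻¹ ∈ Subgroup.normalizer ((Subgroup.zpowers z : Subgroup G) : Set G) := by
      have h1 : k * (x : G) ^ s * k⁻¹ ∈ Subgroup.centralizer ((Subgroup.zpowers z : Subgroup G) : Set G) := by
        rw [Subgroup.mem_centralizer_iff]
        intro w hw
        rw [hk] at hw
        obtain ⟨v, hv, rfl⟩ := hw
        obtain ⟨j, rfl⟩ := Subgroup.mem_zpowers_iff.1 hv
        show k * ((x : G) ^ r) ^ j * k⁻¹ * (k * (x : G) ^ s * k⁻¹) =
          k * (x : G) ^ s * k⁻¹ * (k * ((x : G) ^ r) ^ j * k⁻¹)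
        have hcm : ((x : G) ^ r) ^ j * (x : G) ^ s = (x : G) ^ s * ((x : G) ^ r) ^ j :=
          ((((Commute.refl (x : G)).pow_left r).zpow_left j).pow_right s)
        calc k * ((x : G) ^ r) ^ j * k⁻¹ * (k * (x : G) ^ s * k⁻¹)
            = k * (((x : G) ^ r) ^ j * (x : G) ^ s) * k⁻¹ := by group
          _ = k * ((x : G) ^ s * ((x : G) ^ r) ^ j) * k⁻¹ := by rw [hcm]
          _ = k * (x : G) ^ s * k⁻¹ * (k * ((x : G) ^ r) ^ j * k⁻¹) := by group
      exact Subgroup.centralizer_le_normalizer _ h1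
    rw [← hy, ← Subgroup.orderOf_mk _ hyN]
    exact orderOf_dvd_natCard _
  -- one of the factors contains an element of order `r` normalising a subgroup of order `s`
  have key : ∀ y z : G, y ∈ A → z ∈ A → orderOf y = r → orderOf z = s →
      y * z * y⁻¹ ∈ Subgroup.zpowers z → ∃ x ∈ A.subgroupOf T, orderOf x = r * s := by
    intro y z hy hz hyr hzs hyz
    have hyT : y ∈ T := mem_of_not_dvd T hr hrG (n := 1) (by rw [pow_one, ← hyr, pow_orderOf_eq_one])
    have hzT : z ∈ T := mem_of_not_dvd T hs hsG (n := 1) (by rw [pow_one, ← hzs, pow_orderOf_eq_one])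
    have hc := hN ⟨y, hyT⟩ ⟨z, hzT⟩ (by rw [Subgroup.orderOf_mk, hyr]) (by rw [Subgroup.orderOf_mk, hzs]) (by
      obtain ⟨j, hj⟩ := Subgroup.mem_zpowers_iff.1 hyz
      rw [Subgroup.mem_zpowers_iff]
      exact ⟨j, Subtype.ext hj⟩)
    refine ⟨⟨y, hyT⟩ * ⟨z, hzT⟩, A.mul_mem hy hz, ?_⟩
    have hcm : Commute (⟨y, hyT⟩ : T) ⟨z, hzT⟩ := hc
    rw [hcm.orderOf_mul_eq_mul_orderOf_of_coprime, Subgroup.orderOf_mk, Subgroup.orderOf_mk, hyr, hzs]
    rw [Subgroup.orderOf_mk, Subgroup.orderOf_mk, hyr, hzs]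
    exact (Nat.coprime_primes hr hs).2 hrs
  have hfac : ∀ g ∈ Subgroup.normalizer ((Subgroup.zpowers z : Subgroup G) : Set G),
      ∃ a ∈ A ⊓ Subgroup.normalizer ((Subgroup.zpowers z : Subgroup G) : Set G),
      ∃ b ∈ B ⊓ Subgroup.normalizer ((Subgroup.zpowers z : Subgroup G) : Set G), g = a * b := fun g hg =>
    normalizer_factor hAB (fun P _ hP => hcycG P hP) hX cX hg
  rcases dvd_card_of_factor hr inf_le_right inf_le_right hfac hrN with hd | hd
  · obtain ⟨⟨y, hyA, hyN⟩, hy1⟩ := exists_prime_orderOf_dvd_card' r hd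
    refine key y z hyA hz.1 (by rw [← hy1, ← Subgroup.orderOf_coe]) hz1' ?_
    exact (Subgroup.mem_normalizer_iff.1 hyN z).1 (Subgroup.mem_zpowers z)
  · obtain ⟨⟨y, hyB, hyN⟩, hy1⟩ := exists_prime_orderOf_dvd_card' r hd
    obtain ⟨y', hy', rfl⟩ := hyB
    obtain ⟨z', hz', hzz⟩ := hz.2
    subst hzz
    have ho : ∀ w : G, orderOf (ψ w) = orderOf w := fun w => orderOf_injective ψ.toMonoidHom ψ.injective w
    refine key y' z' hy' hz' ?_ ?_ ?_
    · rw [← hy1, ← Subgroup.orderOf_coe]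
      exact (ho y').symm
    · rw [← hz1']
      exact (ho z').symm
    · have h1 := (Subgroup.mem_normalizer_iff.1 hyN _).1 (Subgroup.mem_zpowers (ψ.toMonoidHom z'))
      obtain ⟨j, hj⟩ := Subgroup.mem_zpowers_iff.1 h1
      rw [Subgroup.mem_zpowers_iff]
      refine ⟨j, ψ.injective ?_⟩
      rw [map_zpow, map_mul, map_mul, map_inv]
      exact hj

end Fac

end Cfsg.Agent.H997.PF
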