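import Cfsg.Agent.H997.PF.RowsTop
import Cfsg.Agent.H997.Emb.Main
import Cfsg.Agent.H327.PF.FamSp
import Cfsg.Agent.H327.PF.FamOdd
import Cfsg.Agent.H79.O16.O16
import Cfsg.Agent.H922.OmKill

/-!
# Rows `PSp_8(q)`, `Ω_9(q)`, `PΩ⁺_16(2)` (helper997, for S3522)
-/

set_option autoImplicit false
set_option linter.style.haveILetI false

namespace Cfsg.Agent.H997.PF

open Cfsg Cfsg.Geo Cfsg.Agent.OrdDiv Cfsg.Agent.H436 Cfsg.Agent.H264.FKS Cfsg.Agent.H264.GN Cfsg.Agent.H915.GN
  Cfsg.Agent.H938.Sax Cfsg.Agent.H884.El Cfsg.Agent.H278.El.Asm Cfsg.Agent.LieClassical.OmegaReindex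
  Cfsg.Agent.LieClassical Cfsg.Agent.H955
open scoped MatrixGroups

variable {F : Type} [Field F] [Fintype F]

/-- **`PΩ⁻_8(q)` is not the socle of a residual subgroup of `PSp_8(q)`.** -/
theorem no_residual8 (hq : Fintype.card F ≠ 2) {K : Subgroup (PSp 4 F)}
    (h : SocNQ K (Fin 4 ⊕ Fin 4) F (H262.El.pre K) (.ominus 4 (Fintype.card F))) : False := by
  obtain ⟨S, hSn, hSs, hna, hC, hS, P, hP, hnQ, ⟨e⟩⟩ := h
  obtain ⟨L, _, _, a, b, hL, hab, ⟨e1⟩⟩ := hS.real
  have hsf : IsSymplecticForm (sympForm 4 F) := H924.isSymplecticForm_sympForm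
  have hfix : FixesForm (matrixSet P) (sympForm 4 F) := by
    rintro _ ⟨g, hg, rfl⟩ u v
    exact H931.mem_spGL_iff.1 (H262.El.pre_le K (hP.le hg)) u v
  obtain ⟨-, Q, hpol, hQ⟩ := Cfsg.Agent.H997.Emb.fixQ_of_minus8 hab
    (by rw [Nat.card_eq_fintype_card, Nat.card_eq_fintype_card, hL]) (by rw [Nat.card_eq_fintype_card]; exact hq)
    (by rw [Fintype.card_sum, Fintype.card_fin]) (e.symm.trans e1) hP.absIrred.1 hsf hfix
  exact hnQ ⟨Q, Cfsg.Agent.H883.Bridge.isNondegenerateQuadraticForm (nondeg_of_symp hpol), hQ⟩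

/-- **`PSp_8(q)`, `q > 2`.** -/
theorem row_psp8 (tab : OrderTable.{0}) (hK : Kn) (hq : Fintype.card F ≠ 2) : Row (PSp 4 F) := by
  intro d hd hne
  by_cases hodd : Odd (Fintype.card F)
  · refine ⟨∅, .empty fun K hKt => ?_⟩
    rcases psp_main tab hK (m := 4) (by omega) hq hKt with h | ⟨-, h, -⟩ | ⟨-, h⟩
    · exact .pgap h
    · exact absurd hodd h
    · exact (no_residual8 hq h).elim
  · refine Cfsg.Agent.H327.PF.fam_psp8 hodd fun K hKt => ?_
    rcases psp_main tab hK (m := 4) (by omega) hq hKt with h | h | ⟨-, h⟩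
    · exact Or.inl (.pgap h)
    · exact Or.inr h
    · exact (no_residual8 hq h).elim

omit [Fintype F] in
theorem pre_ne_omegaGL {ι : Type} [Fintype ι] [DecidableEq ι] {Q : (ι → F) → F} {R : Subgroup (POmega F Q)}
    (hR : R ≠ ⊤) : pre Q R ≠ omegaGL Q := by
  intro h
  apply hR
  have h1 := Subgroup.map_injective (isometryGroup F Q).subtype_injective h
  have h2 : (R.comap (QuotientGroup.mk' (Subgroup.center (Omega F Q)))).map (Omega F Q).subtype =
      (⊤ : Subgroup (Omega F Q)).map (Omega F Q).subtype := by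
    rw [← MonoidHom.range_eq_map, Subgroup.range_subtype]
    exact h1
  have h3 := Subgroup.map_injective (Omega F Q).subtype_injective h2
  rw [eq_top_iff]
  intro x _
  obtain ⟨y, rfl⟩ := QuotientGroup.mk'_surjective _ x
  have h4 : y ∈ R.comap (QuotientGroup.mk' (Subgroup.center (Omega F Q))) := by rw [h3]; trivial
  exact h4

/-- **`PΩ⁻_8(q)` is not the socle of a residual subgroup of `Ω_9(q)`.** -/
theorem no_residual9 (hodd : Odd (Fintype.card F)) {R : Subgroup (POmega F (quadFormOdd 4 F))} (hR : R ≠ ⊤)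
    (h : SocN R (Unit ⊕ (Fin 4 ⊕ Fin 4)) F (pre (quadFormOdd 4 F) R) (.ominus 4 (Fintype.card F))) : False := by
  obtain ⟨S, hSn, hSs, hna, hC, hS, P, hP, ⟨e⟩⟩ := h
  obtain ⟨L, _, _, a, b, hL, hab, ⟨e1⟩⟩ := hS.real
  have hlt : pre (quadFormOdd 4 F) R < omegaGL (quadFormOdd 4 F) :=
    lt_of_le_of_ne pre_le_omegaGL (pre_ne_omegaGL hR)
  exact Cfsg.Agent.H922.OmGL.not_pomega hodd (m := 4) (by omega) hlt hP.le (H915.LD.core_of_residual hP)
    (Or.inr (Or.inr ⟨L, inferInstance, inferInstance, 4, a, b, le_rfl, by rw [hL]; exact hodd, hab,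
      ⟨e.symm.trans e1⟩⟩))

/-- **`Ω_9(q)`.** -/
theorem row_o9 (tab : OrderTable.{0}) (hK : Kn) (hodd : Odd (Fintype.card F)) : Row (POmega F (quadFormOdd 4 F)) := by
  intro d hd hne
  refine Cfsg.Agent.H327.PF.fam_o9 hodd fun K hKt => ?_
  rcases oodd_geo hodd (by omega : 3 ≤ 4) K with h | h | ⟨-, v, hv, h⟩
  · exact Or.inl (.pgap h)
  · rcases oodd_res tab hK (by omega) hodd hKt h with h | ⟨-, h⟩
    · exact Or.inl (.pgap h)
    · exact (no_residual9 hodd hKt h).elim
  · exact Or.inr ⟨v, hv, h⟩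

/-- **`PΩ⁺_16(2)`.** -/
theorem row_o16 (tab : OrderTable.{0}) (hK : Kn) (hF : Fintype.card F = 2)
    [IsSimpleGroup (POmega F (quadFormPlus 8 F))] (hna : ¬ IsMulCommutative (POmega F (quadFormPlus 8 F))) :
    Row (POmega F (quadFormPlus 8 F)) := by
  have := Fact.mk Nat.prime_two
  have hfin : Finite (POmega F (quadFormPlus 8 F)) := Quotient.finite _
  have hout : Nat.card (Cfsg.Out (POmega F (quadFormPlus 8 F))) = 2 := by
    have h1 := Cfsg.Agent.S0817.result (F := F) 2 1 le_rfl (by rw [hF]; rfl) 8 (by omega)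
    rw [if_neg (by omega : ¬ 8 = 4), if_pos rfl] at h1
    exact Cfsg.Agent.H934.OutB.card_out_of_aut hna h1
  refine .kill_two hout fun K hKt => ?_
  have hl := Cfsg.Agent.H79.O16.ld_o16 hF
  rcases geo_plus_miss (F := F) (by omega : 4 ≤ 8) (fun h => by omega) K with h | h | ⟨-, v, hv, h⟩
  · exact .pgap h
  · rcases oplus_res tab hK (by omega) hKt h with h | ⟨-, g, hg, S, hSn, hSs, hna', hC, hS, -⟩
    · exact .pgap h
    · rcases hg with rfl | rfl
      · refine .loc hl ?_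
        obtain ⟨L, _, _, hL, ⟨e⟩⟩ := hS.real
        rw [hF] at hL
        have h1 := Cfsg.Agent.S0814.result (F := L) 2 1 le_rfl (by rw [hL]; rfl) 7 (by omega) (fun h => by omega)
        rw [if_neg (fun h => by omega)] at h1
        refine no_of_socle S hC (c := 1) (N := 7 * 31) ?_ (by decide) fun x hx => ?_
        · have h2 : Nat.card (MulAut S) = Nat.card (MulAut (PSp 7 L)) := Nat.card_congr (MulAut.congr e).toEquiv
          rw [h2, h1, Nat.card_congr e.toEquiv]
          norm_num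
        · exact Cfsg.Agent.H79.O16.sp14_no217 hL (e x) (by
            rw [← hx]; exact orderOf_injective e.toMonoidHom e.injective x)
      · have h2 := hS.cond.2.1
        rw [hF] at h2
        exact absurd h2 (by decide)
  · exact .loc hl (Cfsg.Agent.H79.O16.no217 hF K hv h)

end Cfsg.Agent.H997.PF
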